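import Cfsg.Agent.Lib.Fi24Out.BFixed

/-!
The centraliser of the element of order 11 in the commutator subgroup of Fi24.
-/
set_option autoImplicit false
set_option maxRecDepth 20000
set_option Elab.async false

namespace CfsgLib.Fi24Out

open CfsgLib.Presented CfsgLib.Presented.Vec
open Cfsg.Agent.S1691 (sgn)

/-- All orbits of the element of order 11 on the common neighbours. -/
def bOrbs : List (List ℕ) := bOrbs0 ++ bOrbs1 ++ bOrbs2 ++ bOrbs3 ++ bOrbs4 ++ bOrbs5 ++ bOrbs6

/-- The even representatives of the part of the centraliser fixing the anchor. -/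
def sigWs : List (List ℕ) :=
  [[], 0 :: (tdV ++ tdG :: tdV.reverse), 0 :: (teV ++ teG :: teV.reverse),
    (tdV ++ tdG :: tdV.reverse) ++ (teV ++ teG :: teV.reverse)]

theorem b_basic : (Nat.beq (fAt bW 0) 0 && Nat.beq (fAt bW dPt) dPt && Nat.beq (fAt bW ePt) ePt &&
    md.okW vD && Nat.beq (fAt vD 0) dPt && md.okW vE && Nat.beq (fAt vE 0) ePt &&
    md.okW vbP && Nat.beq (fAt vbP 0) bP0 && md.okW vbQ && Nat.beq (fAt vbQ 0) bQ0 &&
    Nat.beq ((bOrbs.getD bK0 []).getD 0 0) bP0 && Nat.beq (bOrbQ.getD 0 0) bQ0 &&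
    md.relB vD bP0 && md.relB vE bP0 && !(md.relB vD bQ0) && !(md.relB vE bQ0) &&
    md.N0.testBit bP0 && md.N0.testBit bQ0 && !(Nat.beq dPt ePt) && !(Nat.beq dPt 0) && !(Nat.beq ePt 0)) = true := by
  decide +kernel

theorem bOrbQ_chain : chainOK bW bOrbQ = true := by decide +kernel

theorem bOrbs_chain0 : bOrbs0.all (chainOK bW) = true := by decide +kernel

theorem bOrbs_chain1 : bOrbs1.all (chainOK bW) = true := by decide +kernel

theorem bOrbs_chain2 : bOrbs2.all (chainOK bW) = true := by decide +kernel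

theorem bOrbs_chain3 : bOrbs3.all (chainOK bW) = true := by decide +kernel

theorem bOrbs_chain4 : bOrbs4.all (chainOK bW) = true := by decide +kernel

theorem bOrbs_chain5 : bOrbs5.all (chainOK bW) = true := by decide +kernel

theorem bOrbs_chain6 : bOrbs6.all (chainOK bW) = true := by decide +kernel

theorem bOrbs_chain : bOrbs.all (chainOK bW) = true := by
  simp only [bOrbs, List.all_append, bOrbs_chain0, bOrbs_chain1, bOrbs_chain2, bOrbs_chain3, bOrbs_chain4, bOrbs_chain5, bOrbs_chain6, Bool.and_self]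

theorem bOrbs_cover : subOn Fi24Cert.rep (Nat.land md.N0 (Nat.land (md.nearSet vD) (md.nearSet vE)))
    (ptsSet bOrbs.flatten) = true := by decide +kernel

theorem bRep_ok : (Nat.beq bRepWs.length bOrbs.length && (List.range 63).all fun k =>
    force k fun k => md.okW (bRepWs.getD k ([], 0)).1 &&
      Nat.beq (fAt (bRepWs.getD k ([], 0)).1 0) ((bOrbs.getD k []).getD 0 0) &&
      (Nat.beq k 6 || Nat.beq k 16 || Nat.beq k 58 ||
        !(md.selfB bW (bRepWs.getD k ([], 0)).1 (bRepWs.getD k ([], 0)).2 ==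
          md.selfB bW vbP (bRepWs.getD k ([], 0)).2)) && Nat.blt k 63) = true := by decide +kernel

theorem bOrbs_len : (Nat.beq bOrbs.length 63 && Nat.beq bK0 6) = true := by decide +kernel

/-- The signature of one orbit. -/
noncomputable def sigOK (k : ℕ) (vs : List (List ℕ × ℕ × Bool)) (cands : List (List ℕ × ℕ × ℕ × ℕ)) : Bool :=
  (vs.all fun e => md.okW e.1 && Nat.blt e.2.1 (bOrbs.getD k []).length &&
    Nat.beq (fAt e.1 0) ((bOrbs.getD k []).getD e.2.1 0) &&
    (md.relB (wpow bW e.2.1 ++ vbP) bQ0 == e.2.2)) &&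
  subOn Fi24Cert.rep (md.sigSet ((vD, false) :: (vE, false) :: vs.map fun e => (e.1, e.2.2)))
    (ptsSet (cands.map fun e => e.2.1)) &&
  cands.all fun e => md.okW e.1 && Nat.beq (fAt e.1 0) e.2.1 &&
    cond (Nat.beq e.2.2.1 0) (Nat.beq k bK0 && Nat.blt e.2.2.2 4 && Nat.beq (fAt (sigWs.getD e.2.2.2 []) bQ0) e.2.1)
      (!(md.selfB bW e.1 e.2.2.1 == md.selfB bW vbQ e.2.2.1))

theorem sig6 : sigOK 6 bSig6 bCand6 = true := by decide +kernel

theorem sig16 : sigOK 16 bSig16 bCand16 = true := by decide +kernel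

theorem sig58 : sigOK 58 bSig58 bCand58 = true := by decide +kernel

theorem sigWs_ok : (md.okW tdV && md.okW teV && Nat.blt tdG 12 && Nat.blt teG 12 &&
    Nat.beq (fAt (tdV ++ genPtWord tdG) 0) dPt && Nat.beq (fAt (teV ++ genPtWord teG) 0) ePt &&
    Nat.beq (fAt [0] bP0) bP0 && Nat.beq (fAt [0] bQ0) bQ0 &&
    sigWs.all (fun w => md.okW w && Nat.beq (fAt w 0) 0 && Nat.beq (fAt w bP0) bP0 && Nat.beq (w.length % 2) 0)) = true := by
  decide +kernel

theorem uB_fix : md.phi uB md.o = md.o := by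
  apply Fin.ext
  rw [md.phi_at bW_ok]
  have h := b_basic
  simp only [Bool.and_eq_true] at h
  exact Nat.eq_of_beq_eq_true h.1.1.1.1.1.1.1.1.1.1.1.1.1.1.1.1.1.1.1.1.1

theorem bP_pt : (pt vbP : ℕ) = bP0 := by
  refine pt_eq ?_
  have h := b_basic
  simp only [Bool.and_eq_true] at h ⊢
  exact ⟨h.1.1.1.1.1.1.1.1.1.1.1.1.1.1.2, h.1.1.1.1.1.1.1.1.1.1.1.1.1.2⟩

theorem bQ_pt : (pt vbQ : ℕ) = bQ0 := by
  refine pt_eq ?_
  have h := b_basic
  simp only [Bool.and_eq_true] at h ⊢
  exact ⟨h.1.1.1.1.1.1.1.1.1.1.1.1.2, h.1.1.1.1.1.1.1.1.1.1.1.2⟩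

theorem vD_pt : (pt vD : ℕ) = dPt ∧ (pt vE : ℕ) = ePt := by
  have h := b_basic
  simp only [Bool.and_eq_true] at h
  exact ⟨pt_eq (by simp only [Bool.and_eq_true]; exact ⟨h.1.1.1.1.1.1.1.1.1.1.1.1.1.1.1.1.1.1.2, h.1.1.1.1.1.1.1.1.1.1.1.1.1.1.1.1.1.2⟩),
    pt_eq (by simp only [Bool.and_eq_true]; exact ⟨h.1.1.1.1.1.1.1.1.1.1.1.1.1.1.1.1.2, h.1.1.1.1.1.1.1.1.1.1.1.1.1.1.1.2⟩)⟩

theorem uB_fix_de : md.phi uB (pt vD) = pt vD ∧ md.phi uB (pt vE) = pt vE := by
  have h := b_basic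
  simp only [Bool.and_eq_true] at h
  constructor <;> apply Fin.ext <;> rw [md.phi_at bW_ok]
  · rw [vD_pt.1]; exact Nat.eq_of_beq_eq_true h.1.1.1.1.1.1.1.1.1.1.1.1.1.1.1.1.1.1.1.1.2
  · rw [vD_pt.2]; exact Nat.eq_of_beq_eq_true h.1.1.1.1.1.1.1.1.1.1.1.1.1.1.1.1.1.1.1.2

/-- An element commuting with the element of order 11 and fixing the base point permutes the two other
fixed points. -/
theorem de_perm {y : Cfsg.Spor.Fi24} (ho : md.phi y md.o = md.o) (hc : Commute y uB) :
    (md.phi y (pt vD) = pt vD ∧ md.phi y (pt vE) = pt vE) ∨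
      (md.phi y (pt vD) = pt vE ∧ md.phi y (pt vE) = pt vD) := by
  have hb := b_basic
  simp only [Bool.and_eq_true, Bool.not_eq_true'] at hb
  have hde : pt vD ≠ pt vE := fun e => by
    have := congrArg Fin.val e
    rw [vD_pt.1, vD_pt.2] at this
    have h1 := hb.1.1.2
    rw [this] at h1
    exact Bool.false_ne_true (h1.symm.trans (Nat.beq_refl ePt))
  have hfix : ∀ q : Pt, md.phi uB q = q → q ≠ md.o → md.phi y q = pt vD ∨ md.phi y q = pt vE := by
    intro q hq hne
    have h1 : md.phi uB (md.phi y q) = md.phi y q := by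
      rw [← Equiv.Perm.mul_apply, ← map_mul, ← hc.eq, map_mul, Equiv.Perm.mul_apply, hq]
    have h2 := b_fixed h1
    simp only [List.mem_cons, List.not_mem_nil, or_false] at h2
    rcases h2 with h2 | h2 | h2
    · exact absurd ((md.phi y).injective ((Fin.ext h2 : md.phi y q = md.o).trans ho.symm)) hne
    · exact Or.inl (Fin.ext (h2.trans vD_pt.1.symm))
    · exact Or.inr (Fin.ext (h2.trans vD_pt.2.symm))
  have hd0 : pt vD ≠ md.o := fun e => by
    have h0 : dPt = 0 := vD_pt.1.symm.trans (congrArg Fin.val e)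
    have h1 := hb.1.2
    rw [h0] at h1
    exact Bool.false_ne_true (h1.symm.trans (Nat.beq_refl 0))
  have he0 : pt vE ≠ md.o := fun e => by
    have h0 : ePt = 0 := vD_pt.2.symm.trans (congrArg Fin.val e)
    have h1 := hb.2
    rw [h0] at h1
    exact Bool.false_ne_true (h1.symm.trans (Nat.beq_refl 0))
  rcases hfix _ uB_fix_de.1 hd0 with h1 | h1 <;> rcases hfix _ uB_fix_de.2 he0 with h2 | h2
  · exact absurd ((md.phi y).injective (h1.trans h2.symm)) hde
  · exact Or.inl ⟨h1, h2⟩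
  · exact Or.inr ⟨h1, h2⟩
  · exact absurd ((md.phi y).injective (h1.trans h2.symm)) hde

theorem bOrb_spec {k i : ℕ} (hk : k < 63) (hi : i < (bOrbs.getD k []).length) :
    (bOrbs.getD k []).getD i 0 = (md.phi (uB ^ i) (pt (bRepWs.getD k ([], 0)).1) : ℕ) := by
  have h := bRep_ok
  simp only [Bool.and_eq_true, List.all_eq_true, List.mem_range, force_eq] at h
  obtain ⟨⟨⟨hok, hv⟩, -⟩, -⟩ := h.2 k hk
  have hl := bOrbs_len
  simp only [Bool.and_eq_true] at hl
  have hmem : bOrbs.getD k [] ∈ bOrbs := by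
    rw [List.getD_eq_getElem _ _ (by rw [Nat.eq_of_beq_eq_true hl.1]; exact hk)]
    exact List.getElem_mem _
  exact chainOK_spec bW_ok (List.all_eq_true.1 bOrbs_chain _ hmem)
    ((pt_val hok).trans (Nat.eq_of_beq_eq_true hv)) hi

theorem vbP_rep : pt vbP = pt (bRepWs.getD 6 ([], 0)).1 := by
  have h := bRep_ok
  simp only [Bool.and_eq_true, List.all_eq_true, List.mem_range, force_eq] at h
  obtain ⟨⟨⟨hok, hv⟩, -⟩, -⟩ := h.2 6 (by norm_num)
  have hl := bOrbs_len
  have hb := b_basic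
  simp only [Bool.and_eq_true] at hl hb
  apply Fin.ext
  rw [bP_pt, pt_val hok, Nat.eq_of_beq_eq_true hv, ← Nat.eq_of_beq_eq_true hl.2]
  exact (Nat.eq_of_beq_eq_true hb.1.1.1.1.1.1.1.1.1.1.2).symm

theorem near_de {y : Cfsg.Spor.Fi24} (ho : md.phi y md.o = md.o) (hc : Commute y uB) :
    (md.Near (pt vD) (md.phi y (pt vbP)) ∧ md.Near (pt vE) (md.phi y (pt vbP))) ∧
      (¬ md.Near (pt vD) (md.phi y (pt vbQ)) ∧ ¬ md.Near (pt vE) (md.phi y (pt vbQ))) := by
  have hb := b_basic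
  simp only [Bool.and_eq_true, Bool.not_eq_true'] at hb
  have okD : md.okW vD = true := hb.1.1.1.1.1.1.1.1.1.1.1.1.1.1.1.1.1.1.2
  have okE : md.okW vE = true := hb.1.1.1.1.1.1.1.1.1.1.1.1.1.1.1.1.2
  have p1 : md.Near (pt vD) (pt vbP) := (md.relB_iff okD rfl _).1 (by rw [bP_pt]; exact hb.1.1.1.1.1.1.1.1.2)
  have p2 : md.Near (pt vE) (pt vbP) := (md.relB_iff okE rfl _).1 (by rw [bP_pt]; exact hb.1.1.1.1.1.1.1.2)
  have q1 : ¬ md.Near (pt vD) (pt vbQ) := fun h => by
    have := (md.relB_iff okD rfl _).2 h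
    rw [bQ_pt, hb.1.1.1.1.1.1.2] at this
    exact Bool.false_ne_true this
  have q2 : ¬ md.Near (pt vE) (pt vbQ) := fun h => by
    have := (md.relB_iff okE rfl _).2 h
    rw [bQ_pt, hb.1.1.1.1.1.2] at this
    exact Bool.false_ne_true this
  rcases de_perm ho hc with ⟨hd, he⟩ | ⟨hd, he⟩
  · rw [← hd, md.near_apply, md.near_apply, ← he, md.near_apply, md.near_apply]
    exact ⟨⟨p1, p2⟩, q1, q2⟩
  · refine ⟨⟨?_, ?_⟩, ?_, ?_⟩
    · rw [← he, md.near_apply]; exact p2
    · rw [← hd, md.near_apply]; exact p1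
    · rw [← he, md.near_apply]; exact q2
    · rw [← hd, md.near_apply]; exact q1

/-- A centralising element fixing the base point maps the anchor into its orbit. -/
theorem b_anchor {y : Cfsg.Spor.Fi24} (ho : md.phi y md.o = md.o) (hc : Commute y uB) :
    ∃ k i, k < 63 ∧ md.phi ((uB ^ i)⁻¹ * y) (pt vbP) = pt (bRepWs.getD k ([], 0)).1 := by
  have hb := b_basic
  simp only [Bool.and_eq_true] at hb
  obtain ⟨⟨h1, h2⟩, -⟩ := near_de ho hc
  have hbit : (Nat.land md.N0 (Nat.land (md.nearSet vD) (md.nearSet vE))).testBit (md.phi y (pt vbP)) = true := by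
    show Nat.testBit (_ &&& (_ &&& _)) _ = true
    rw [Nat.testBit_and, Nat.testBit_and, md.N0_stab ho, bP_pt, hb.1.1.1.1.2,
      (md.nearSet_iff hb.1.1.1.1.1.1.1.1.1.1.1.1.1.1.1.1.1.1.2 rfl _).2 h1,
      (md.nearSet_iff hb.1.1.1.1.1.1.1.1.1.1.1.1.1.1.1.1.2 rfl _).2 h2]
    rfl
  obtain ⟨l, hl, hm⟩ := List.mem_flatten.1 (ptsSet_spec (subOn_spec bOrbs_cover _ hbit))
  obtain ⟨k, hk, rfl⟩ := List.getElem_of_mem hl
  obtain ⟨i, hi, he⟩ := List.getElem_of_mem hm
  have hlen := bOrbs_len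
  simp only [Bool.and_eq_true] at hlen
  have hk' : k < 63 := by rw [← Nat.eq_of_beq_eq_true hlen.1]; exact hk
  refine ⟨k, i, hk', ?_⟩
  have h := bOrb_spec hk' (i := i) (by rw [List.getD_eq_getElem _ _ hk]; exact hi)
  rw [List.getD_eq_getElem _ _ hk, List.getD_eq_getElem _ _ hi, he] at h
  rw [map_mul, Equiv.Perm.mul_apply, map_inv, Equiv.Perm.inv_eq_iff_eq]
  exact Fin.ext h

theorem sigWs_facts {s : ℕ} (hs : s < 4) :
    Commute (md.val (sigWs.getD s [])) uB ∧ md.phi (md.val (sigWs.getD s [])) md.o = md.o ∧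
      md.phi (md.val (sigWs.getD s [])) (pt vbP) = pt vbP ∧ sgn (md.val (sigWs.getD s [])) = 1 := by
  have h := sigWs_ok
  simp only [Bool.and_eq_true, List.all_eq_true, Nat.blt_eq] at h
  obtain ⟨⟨⟨⟨⟨⟨⟨⟨hdv, hev⟩, hdg⟩, heg⟩, hd⟩, he⟩, -⟩, -⟩, hall⟩ := h
  have hmem : sigWs.getD s [] ∈ sigWs := by
    have : sigWs.length = 4 := rfl
    rw [List.getD_eq_getElem _ _ (by omega)]
    exact List.getElem_mem _
  obtain ⟨⟨⟨hok, hz⟩, hP⟩, heven⟩ := hall _ hmem
  refine ⟨?_, Fin.ext ?_, Fin.ext ?_, sgn_even (by rw [hok, heven]; rfl)⟩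
  · have conjC : ∀ (v : List ℕ) (g : ℕ) (t : Pt), md.okW v = true → g < 12 →
        fAt (v ++ genPtWord g) 0 = (t : ℕ) → md.phi uB t = t → Commute uB (md.val (v ++ g :: v.reverse)) := by
      intro v g t hv hg hpt ht
      have hg' : g < md.R.A.eps := by rw [md_eps]; exact hg
      have hw : md.okW (v ++ genPtWord g) = true := by rw [md.okW_append, hv, Bool.true_and]; exact (gp.ok g hg').1
      have e : md.phi (md.val (v ++ genPtWord g)) md.o = t := Fin.ext ((pt_val hw).trans hpt)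
      have hcc := md.comm_conj (y := uB) (g := md.val (v ++ genPtWord g)) (by rw [e]; exact ht)
      have hval : md.val (v ++ g :: v.reverse) =
          md.val (v ++ genPtWord g) * md.ev md.z * (md.val (v ++ genPtWord g))⁻¹ := by
        rw [md.val_append, md.val_append]
        show md.val v * (evW md.ev (g :: v.reverse)) = _
        rw [evW_cons, show evW md.ev v.reverse = md.val v.reverse from rfl, md.val_reverse hv, (gp.ok g hg').2]
        simp only [show gp.gw g = genPtWord g from rfl]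
        group
      rw [hval]
      exact hcc
    have cd := conjC tdV tdG (pt vD) hdv hdg ((Nat.eq_of_beq_eq_true hd).trans vD_pt.1.symm) uB_fix_de.1
    have ce := conjC teV teG (pt vE) hev heg ((Nat.eq_of_beq_eq_true he).trans vD_pt.2.symm) uB_fix_de.2
    have c0 : Commute uB zEl := mem_stab uB_fix
    rcases (by omega : s = 0 ∨ s = 1 ∨ s = 2 ∨ s = 3) with rfl | rfl | rfl | rfl
    · exact Commute.one_left uB
    · show Commute (evW md.ev (0 :: _)) uB
      rw [evW_cons]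
      exact (c0.mul_right cd).symm
    · show Commute (evW md.ev (0 :: _)) uB
      rw [evW_cons]
      exact (c0.mul_right ce).symm
    · show Commute (md.val (_ ++ _)) uB
      rw [md.val_append]
      exact (cd.mul_right ce).symm
  · rw [md.phi_at hok]; exact Nat.eq_of_beq_eq_true hz
  · rw [md.phi_at hok, bP_pt]; exact Nat.eq_of_beq_eq_true hP

theorem sig_ok {k : ℕ} (hk : k = 6 ∨ k = 16 ∨ k = 58) : ∃ vs cands, sigOK k vs cands = true := by
  rcases hk with rfl | rfl | rfl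
  · exact ⟨_, _, sig6⟩
  · exact ⟨_, _, sig16⟩
  · exact ⟨_, _, sig58⟩

theorem b_close : gp.closeOK genTargets bClose (bOrbs.getD bK0 [] ++ bOrbQ) = true := by decide +kernel

/-- A centralising element fixing the base point and both anchors is trivial or the central letter. -/
theorem b_trivial {y : Cfsg.Spor.Fi24} (ho : md.phi y md.o = md.o) (hc : Commute y uB)
    (hP : md.phi y (pt vbP) = pt vbP) (hQ : md.phi y (pt vbQ) = pt vbQ) : y = 1 ∨ y = zEl := by
  have hb := b_basic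
  have hl := bOrbs_len
  simp only [Bool.and_eq_true] at hb hl
  have hmem : bOrbs.getD bK0 [] ∈ bOrbs := by
    rw [List.getD_eq_getElem _ _ (by rw [Nat.eq_of_beq_eq_true hl.1, Nat.eq_of_beq_eq_true hl.2]; norm_num)]
    exact List.getElem_mem _
  refine fix_trivial_of_close b_close ho fun i hi => ?_
  rcases List.mem_append.1 hi with hi | hi
  · exact fix_chain bW_ok (List.all_eq_true.1 bOrbs_chain _ hmem)
      (bP_pt.trans (Nat.eq_of_beq_eq_true hb.1.1.1.1.1.1.1.1.1.1.2).symm) hc hP hi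
  · exact fix_chain bW_ok bOrbQ_chain (bQ_pt.trans (Nat.eq_of_beq_eq_true hb.1.1.1.1.1.1.1.1.1.2).symm) hc hQ hi

/-- The centraliser of the element of order 11 in the point stabiliser. -/
theorem cent_b_stab {y : Cfsg.Spor.Fi24} (ho : md.phi y md.o = md.o) (hc : Commute y uB) :
    ∃ i s, s < 4 ∧ (y = uB ^ i * md.val (sigWs.getD s []) ∨ y = uB ^ i * md.val (sigWs.getD s []) * zEl) := by
  obtain ⟨k, i, hk, h1⟩ := b_anchor ho hc
  set y1 := (uB ^ i)⁻¹ * y with hy1
  have hui : md.phi (uB ^ i) md.o = md.o := by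
    rw [map_pow]; exact Equiv.Perm.pow_apply_eq_self_of_apply_eq_self uB_fix i
  have ho1 : md.phi y1 md.o = md.o := by
    rw [hy1, map_mul, Equiv.Perm.mul_apply, ho, map_inv, Equiv.Perm.inv_eq_iff_eq]
    exact hui.symm
  have hc1 : Commute y1 uB := (Commute.pow_self uB i).inv_left.mul_left hc
  have hr := bRep_ok
  simp only [Bool.and_eq_true, List.all_eq_true, List.mem_range, force_eq] at hr
  obtain ⟨⟨⟨hok, hv⟩, hkey⟩, -⟩ := hr.2 k hk
  simp only [Bool.or_eq_true] at hkey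
  have hsame : ∀ j, md.selfB bW (bRepWs.getD k ([], 0)).1 j = md.selfB bW vbP j := fun j => by
    refine Bool.eq_iff_iff.2 ?_
    have hokP : md.okW vbP = true := by
      have hb := b_basic
      simp only [Bool.and_eq_true] at hb
      exact hb.1.1.1.1.1.1.1.1.1.1.1.1.1.1.2
    rw [Model.selfB_iff bW_ok hok j (q := md.phi y1 (pt vbP)) (by rw [h1]; exact md.phi_at hok md.o),
      Model.selfB_iff bW_ok hokP j (q := pt vbP) (md.phi_at hokP md.o), Model.near_self_image hc1]
  have hk3 : k = 6 ∨ k = 16 ∨ k = 58 := by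
    rcases hkey with ((h | h) | h) | h
    · exact Or.inl (Nat.eq_of_beq_eq_true h)
    · exact Or.inr (Or.inl (Nat.eq_of_beq_eq_true h))
    · exact Or.inr (Or.inr (Nat.eq_of_beq_eq_true h))
    · simp only [Bool.not_eq_true', beq_eq_false_iff_ne, ne_eq] at h
      exact absurd (hsame _) h
  obtain ⟨vs, cands, hsig⟩ := sig_ok hk3
  simp only [sigOK, Bool.and_eq_true] at hsig
  obtain ⟨⟨hvs, hset⟩, hcands⟩ := hsig
  have hb := b_basic
  simp only [Bool.and_eq_true] at hb
  have okQ : md.okW vbQ = true := hb.1.1.1.1.1.1.1.1.1.1.1.1.2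
  have okP : md.okW vbP = true := hb.1.1.1.1.1.1.1.1.1.1.1.1.1.1.2
  obtain ⟨-, hnd, hne⟩ := near_de ho1 hc1
  have hmem : (md.sigSet ((vD, false) :: (vE, false) :: vs.map fun e => (e.1, e.2.2))).testBit
      (md.phi y1 (pt vbQ)) = true := by
    refine Model.sigSet_spec (by rw [md.N0_stab ho1, bQ_pt]; exact hb.1.1.1.2) fun e' he' => ?_
    rcases List.mem_cons.1 he' with rfl | he'
    · exact ⟨hb.1.1.1.1.1.1.1.1.1.1.1.1.1.1.1.1.1.1.2, iff_of_false hnd Bool.false_ne_true⟩
    rcases List.mem_cons.1 he' with rfl | he'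
    · exact ⟨hb.1.1.1.1.1.1.1.1.1.1.1.1.1.1.1.1.2, iff_of_false hne Bool.false_ne_true⟩
    obtain ⟨e, he, rfl⟩ := List.mem_map.1 he'
    have h := List.all_eq_true.1 hvs e he
    simp only [Bool.and_eq_true, Nat.blt_eq, beq_iff_eq] at h
    obtain ⟨⟨⟨hoke, hi⟩, hve⟩, hrel⟩ := h
    refine ⟨hoke, ?_⟩
    have okv : md.okW (wpow bW e.2.1 ++ vbP) = true := by
      rw [md.okW_append, okP, Bool.and_true, md.okW_spec]
      intro x hx
      simp only [wpow, List.mem_flatten, List.mem_replicate] at hx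
      obtain ⟨l, ⟨-, rfl⟩, hx⟩ := hx
      exact md.okW_spec.1 bW_ok x hx
    have e1 : pt (wpow bW e.2.1 ++ vbP) = md.phi (uB ^ e.2.1) (pt vbP) := by
      show md.phi (evW md.ev (_ ++ _)) md.o = _
      rw [evW_append, evW_wpow, map_mul, Equiv.Perm.mul_apply]
    have e2 : pt e.1 = md.phi y1 (pt (wpow bW e.2.1 ++ vbP)) := by
      rw [e1, Model.apply_pow_comm hc1, h1]
      apply Fin.ext
      rw [← bOrb_spec hk hi, pt_val hoke]
      exact Nat.eq_of_beq_eq_true hve
    show md.Near (pt e.1) _ ↔ _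
    rw [e2, md.near_apply, ← md.relB_iff okv rfl, bQ_pt, hrel]
  obtain ⟨e, he, hq⟩ := List.mem_map.1 (ptsSet_spec (subOn_spec hset _ hmem))
  have hce := List.all_eq_true.1 hcands e he
  simp only [Bool.and_eq_true] at hce
  obtain ⟨⟨hoke, hve⟩, hcond⟩ := hce
  cases h0 : Nat.beq e.2.2.1 0
  · exfalso
    rw [h0, cond_false] at hcond
    simp only [Bool.not_eq_true', beq_eq_false_iff_ne, ne_eq] at hcond
    refine hcond (Bool.eq_iff_iff.2 ?_)
    rw [Model.selfB_iff bW_ok hoke _ (q := md.phi y1 (pt vbQ)) (by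
        rw [← hq, md_pAt]; exact (Nat.eq_of_beq_eq_true hve).symm),
      Model.selfB_iff bW_ok okQ _ (q := pt vbQ) (md.phi_at okQ md.o), Model.near_self_image hc1]
  · rw [h0, cond_true] at hcond
    simp only [Bool.and_eq_true, Nat.blt_eq] at hcond
    obtain ⟨⟨hkk, hs⟩, hsq⟩ := hcond
    have hl := bOrbs_len
    simp only [Bool.and_eq_true] at hl
    have hk6 : k = 6 := (Nat.eq_of_beq_eq_true hkk).trans (Nat.eq_of_beq_eq_true hl.2)
    obtain ⟨hsc, hso, hsP, -⟩ := sigWs_facts hs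
    refine ⟨i, e.2.2.2, hs, ?_⟩
    set g := md.val (sigWs.getD e.2.2.2 []) with hg
    have hP1 : md.phi y1 (pt vbP) = pt vbP := by rw [h1, hk6, ← vbP_rep]
    have hyy : y = uB ^ i * g * (g⁻¹ * y1) := by rw [hy1]; group
    have hoks : md.okW (sigWs.getD e.2.2.2 []) = true := by
      have h := sigWs_ok
      simp only [Bool.and_eq_true, List.all_eq_true] at h
      have : sigWs.length = 4 := rfl
      refine (h.2 (sigWs.getD e.2.2.2 []) ?_).1.1.1
      rw [List.getD_eq_getElem _ _ (by omega)]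
      exact List.getElem_mem _
    have t := b_trivial (y := g⁻¹ * y1) (by
        rw [map_mul, Equiv.Perm.mul_apply, ho1, map_inv, Equiv.Perm.inv_eq_iff_eq, hso])
      (hsc.inv_left.mul_left hc1)
      (by rw [map_mul, Equiv.Perm.mul_apply, hP1, map_inv, Equiv.Perm.inv_eq_iff_eq, hsP])
      (by
        rw [map_mul, Equiv.Perm.mul_apply, map_inv, Equiv.Perm.inv_eq_iff_eq]
        apply Fin.ext
        rw [hg, md.phi_at hoks, bQ_pt, md_pAt, Nat.eq_of_beq_eq_true hsq]
        exact hq.symm)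
    rcases t with t | t
    · left
      rw [t, mul_one] at hyy
      exact hyy
    · right
      rw [t] at hyy
      exact hyy

end CfsgLib.Fi24Out
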