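import Cfsg.Agent.Lib.Fi24Out.Orbits
import Cfsg.Agent.Lib.Fi24Out.Data
import Cfsg.Agent.Lib.Fi24Out.DataMoved

/-!
The fixed points of the element of order 11.
-/
set_option autoImplicit false
set_option maxRecDepth 100000
set_option Elab.async false

namespace CfsgLib.Fi24Out

open CfsgLib.Presented CfsgLib.Presented.Vec

/-- The element of order 11. -/
noncomputable abbrev uB : Cfsg.Spor.Fi24 := md.val bW

/-- The first half of the check of one plane. -/
noncomputable def leftOK (b mid : ℕ) : Bool :=
  force ((slices Fi24Cert.rep.m).getD b 0) fun s =>
    agreeOn Fi24Cert.rep.N (imgSet Fi24Cert.rep bLeft s) mid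

/-- The second half of the check of one plane. -/
noncomputable def rightOK (b mid lit : ℕ) : Bool :=
  force ((slices Fi24Cert.rep.m).getD b 0) fun s =>
    agreeOn Fi24Cert.rep.N (Nat.xor (imgSet Fi24Cert.rep bRight mid) s) lit

theorem left0 : leftOK 0 bMid0 = true := by decide +kernel

theorem left1 : leftOK 1 bMid1 = true := by decide +kernel

theorem left2 : leftOK 2 bMid2 = true := by decide +kernel

theorem left3 : leftOK 3 bMid3 = true := by decide +kernel

theorem left4 : leftOK 4 bMid4 = true := by decide +kernel

theorem left5 : leftOK 5 bMid5 = true := by decide +kernel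

theorem left6 : leftOK 6 bMid6 = true := by decide +kernel

theorem left7 : leftOK 7 bMid7 = true := by decide +kernel

theorem left8 : leftOK 8 bMid8 = true := by decide +kernel

theorem left9 : leftOK 9 bMid9 = true := by decide +kernel

theorem left10 : leftOK 10 bMid10 = true := by decide +kernel

theorem left11 : leftOK 11 bMid11 = true := by decide +kernel

theorem left12 : leftOK 12 bMid12 = true := by decide +kernel

theorem left13 : leftOK 13 bMid13 = true := by decide +kernel

theorem left14 : leftOK 14 bMid14 = true := by decide +kernel

theorem left15 : leftOK 15 bMid15 = true := by decide +kernel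

theorem left16 : leftOK 16 bMid16 = true := by decide +kernel

theorem left17 : leftOK 17 bMid17 = true := by decide +kernel

theorem left18 : leftOK 18 bMid18 = true := by decide +kernel

theorem right0 : rightOK 0 bMid0 bMov0 = true := by decide +kernel

theorem right1 : rightOK 1 bMid1 bMov1 = true := by decide +kernel

theorem right2 : rightOK 2 bMid2 bMov2 = true := by decide +kernel

theorem right3 : rightOK 3 bMid3 bMov3 = true := by decide +kernel

theorem right4 : rightOK 4 bMid4 bMov4 = true := by decide +kernel

theorem right5 : rightOK 5 bMid5 bMov5 = true := by decide +kernel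

theorem right6 : rightOK 6 bMid6 bMov6 = true := by decide +kernel

theorem right7 : rightOK 7 bMid7 bMov7 = true := by decide +kernel

theorem right8 : rightOK 8 bMid8 bMov8 = true := by decide +kernel

theorem right9 : rightOK 9 bMid9 bMov9 = true := by decide +kernel

theorem right10 : rightOK 10 bMid10 bMov10 = true := by decide +kernel

theorem right11 : rightOK 11 bMid11 bMov11 = true := by decide +kernel

theorem right12 : rightOK 12 bMid12 bMov12 = true := by decide +kernel

theorem right13 : rightOK 13 bMid13 bMov13 = true := by decide +kernel

theorem right14 : rightOK 14 bMid14 bMov14 = true := by decide +kernel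

theorem right15 : rightOK 15 bMid15 bMov15 = true := by decide +kernel

theorem right16 : rightOK 16 bMid16 bMov16 = true := by decide +kernel

theorem right17 : rightOK 17 bMid17 bMov17 = true := by decide +kernel

theorem right18 : rightOK 18 bMid18 bMov18 = true := by decide +kernel

theorem planes_cover : subOn Fi24Cert.rep (ones Fi24Cert.rep.N) (([bMov0, bMov1, bMov2, bMov3, bMov4, bMov5, bMov6, bMov7, bMov8, bMov9, bMov10, bMov11, bMov12, bMov13, bMov14, bMov15, bMov16, bMov17, bMov18] : List ℕ).foldr
    (fun D acc => force acc fun T => Nat.lor D T) (ptsSet [0, dPt, ePt])) = true := by decide +kernel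

theorem bW_ok : md.okW bW = true := by decide +kernel

theorem halves_ok : (md.okW bLeft && md.okW bRight && bW == bLeft ++ bRight) = true := by decide +kernel

attribute [local irreducible] bW bLeft bRight

theorem val_apply {w : List ℕ} (hw : md.okW w = true) (i : Fin Fi24Cert.rep.N) :
    (md.phi (md.val w) i : ℕ) = (evW (Fi24Cert.rep.perm Fi24Cert.rep_valid) w i : ℕ) :=
  congrArg (fun p => ((p i : Fin Fi24Cert.rep.N) : ℕ)) (md.phi_val hw)

theorem plane_moves {b mid lit : ℕ} (hl : leftOK b mid = true) (hr : rightOK b mid lit = true)
    {i : Fin Fi24Cert.rep.N} (hi : lit.testBit i = true) : md.phi uB i ≠ i := by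
  intro he
  have hh := halves_ok
  simp only [Bool.and_eq_true, beq_iff_eq] at hh
  rw [leftOK, force_eq] at hl
  rw [rightOK, force_eq] at hr
  have h1 := agreeOn_spec hr i.2
  rw [hi] at h1
  change Nat.testBit (_ ^^^ _) _ = true at h1
  rw [Nat.testBit_xor, testBit_imgSet Fi24Cert.rep_valid bRight _ i,
    ← agreeOn_spec hl (evW (Fi24Cert.rep.perm Fi24Cert.rep_valid) bRight i).2,
    testBit_imgSet Fi24Cert.rep_valid bLeft] at h1
  have e : evW (Fi24Cert.rep.perm Fi24Cert.rep_valid) bLeft (evW (Fi24Cert.rep.perm Fi24Cert.rep_valid) bRight i)
      = i := by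
    have h3 := (val_apply bW_ok i).symm.trans (congrArg Fin.val he)
    rw [hh.2, evW_append, Equiv.Perm.mul_apply] at h3
    exact Fin.ext h3
  rw [e, Bool.xor_self] at h1
  exact Bool.false_ne_true h1

/-- The fixed points of the element of order 11. -/
theorem b_fixed {i : Pt} (h : md.phi uB i = i) : (i : ℕ) ∈ [0, dPt, ePt] := by
  have key : ∀ l : List ℕ, (∀ D ∈ l, D.testBit (i : ℕ) = false) →
      (l.foldr (fun D acc => force acc fun T => Nat.lor D T) (ptsSet [0, dPt, ePt])).testBit i = true →
      (i : ℕ) ∈ [0, dPt, ePt] := by
    intro l
    induction l with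
    | nil => exact fun _ => ptsSet_spec
    | cons D l ih =>
      intro hl hb
      rw [List.foldr_cons, force_eq] at hb
      change Nat.testBit (D ||| _) _ = true at hb
      rw [Nat.testBit_or, hl D List.mem_cons_self, Bool.false_or] at hb
      exact ih (fun E hE => hl E (List.mem_cons_of_mem _ hE)) hb
  refine key _ (fun D hD => Bool.eq_false_iff.2 fun ht => ?_) (subOn_spec planes_cover i (by
    rw [testBit_ones]; exact decide_eq_true i.2))
  simp only [List.mem_cons, List.not_mem_nil, or_false] at hD
  rcases hD with rfl | rfl | rfl | rfl | rfl | rfl | rfl | rfl | rfl | rfl | rfl | rfl | rfl | rfl | rfl | rfl | rfl | rfl | rfl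
  all_goals first
    | exact plane_moves left0 right0 ht h
    | exact plane_moves left1 right1 ht h
    | exact plane_moves left2 right2 ht h
    | exact plane_moves left3 right3 ht h
    | exact plane_moves left4 right4 ht h
    | exact plane_moves left5 right5 ht h
    | exact plane_moves left6 right6 ht h
    | exact plane_moves left7 right7 ht h
    | exact plane_moves left8 right8 ht h
    | exact plane_moves left9 right9 ht h
    | exact plane_moves left10 right10 ht h
    | exact plane_moves left11 right11 ht h
    | exact plane_moves left12 right12 ht h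
    | exact plane_moves left13 right13 ht h
    | exact plane_moves left14 right14 ht h
    | exact plane_moves left15 right15 ht h
    | exact plane_moves left16 right16 ht h
    | exact plane_moves left17 right17 ht h
    | exact plane_moves left18 right18 ht h

end CfsgLib.Fi24Out
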