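import Cfsg.Agent.Lib.Fi24Out.Gen

/-!
Checks on the candidates for the images of the three generators.
-/
set_option autoImplicit false
set_option maxRecDepth 20000
set_option Elab.async false

namespace CfsgLib.Fi24Out

open CfsgLib.Presented CfsgLib.Presented.Vec

/-- The powers of the element of order 3, as words. -/
noncomputable def cPow (r : ℕ) : List ℕ := cond (Nat.beq r 0) [] (cond (Nat.beq r 1) cW cW.reverse)

/-- The candidate of given indices, as a word. -/
noncomputable def candW (r s : ℕ) : List ℕ := cPow r ++ sigWs.getD s []

/-- The exponent killing a candidate. -/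
noncomputable def candExp (r : ℕ) : ℕ := cond (Nat.beq r 0) 2 3

/-- The relation word of a candidate. -/
noncomputable def relW (j r s : ℕ) : List ℕ :=
  wpow xW j ++ bW ++ candW r s ++ (wpow xW j).reverse ++ (candW r s).reverse

/-- The check that a candidate breaks the relation. -/
noncomputable def killOK (j r s p : ℕ) : Bool :=
  Nat.blt p Fi24Cert.rep.N && md.okW (relW j r s) && !(Nat.beq (md.powAt (relW j r s) 12 p) p)

end CfsgLib.Fi24Out
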