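import Cfsg.Agent.Lib.Fi24Out.CandDefs

/-!
Checks on the candidates for the images of the three generators.
-/
set_option autoImplicit false
set_option maxRecDepth 20000
set_option Elab.async false

namespace CfsgLib.Fi24Out

open CfsgLib.Presented CfsgLib.Presented.Vec

theorem kill501 : killOK 5 0 1 2 = true := by decide +kernel

theorem kill502 : killOK 5 0 2 2 = true := by decide +kernel

theorem kill503 : killOK 5 0 3 2 = true := by decide +kernel

theorem kill510 : killOK 5 1 0 0 = true := by decide +kernel

theorem kill511 : killOK 5 1 1 0 = true := by decide +kernel

theorem kill512 : killOK 5 1 2 0 = true := by decide +kernel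

theorem kill513 : killOK 5 1 3 0 = true := by decide +kernel

theorem kill520 : killOK 5 2 0 0 = true := by decide +kernel

theorem kill521 : killOK 5 2 1 0 = true := by decide +kernel

theorem kill522 : killOK 5 2 2 0 = true := by decide +kernel

theorem kill523 : killOK 5 2 3 0 = true := by decide +kernel

end CfsgLib.Fi24Out
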