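import Cfsg.Agent.Lib.Fi24Out.CandDefs

/-!
Checks on the candidates for the images of the three generators.
-/
set_option autoImplicit false
set_option maxRecDepth 20000
set_option Elab.async false

namespace CfsgLib.Fi24Out

open CfsgLib.Presented CfsgLib.Presented.Vec

theorem cand_pow00 : trivOK (candW 0 0) (candExp 0) = true := by decide +kernel

theorem cand_pow01 : trivOK (candW 0 1) (candExp 0) = true := by decide +kernel

theorem cand_pow02 : trivOK (candW 0 2) (candExp 0) = true := by decide +kernel

theorem cand_pow03 : trivOK (candW 0 3) (candExp 0) = true := by decide +kernel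

theorem cand_pow10 : trivOK (candW 1 0) (candExp 1) = true := by decide +kernel

theorem cand_pow11 : trivOK (candW 1 1) (candExp 1) = true := by decide +kernel

theorem cand_pow12 : trivOK (candW 1 2) (candExp 1) = true := by decide +kernel

theorem cand_pow13 : trivOK (candW 1 3) (candExp 1) = true := by decide +kernel

theorem cand_pow20 : trivOK (candW 2 0) (candExp 2) = true := by decide +kernel

theorem cand_pow21 : trivOK (candW 2 1) (candExp 2) = true := by decide +kernel

theorem cand_pow22 : trivOK (candW 2 2) (candExp 2) = true := by decide +kernel

theorem cand_pow23 : trivOK (candW 2 3) (candExp 2) = true := by decide +kernel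

theorem main_rel : trivOK (xW ++ bW ++ cW ++ xW.reverse ++ cW.reverse) 12 = true := by decide +kernel

theorem bx_rel : trivOK (bW ++ xW ++ bW.reverse ++ wpow xW.reverse 6) 1 = true := by decide +kernel

theorem bc_rel : trivOK (cW ++ bW ++ cW.reverse ++ bW.reverse) 1 = true := by decide +kernel

end CfsgLib.Fi24Out
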