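import Cfsg.Agent.Lib.Fi24Out.CandKillA
import Cfsg.Agent.Lib.Fi24Out.CandKillB
import Cfsg.Agent.Lib.Fi24Out.CandPow

/-!
Checks on the candidates for the images of the three generators.
-/
set_option autoImplicit false
set_option maxRecDepth 20000
set_option Elab.async false

namespace CfsgLib.Fi24Out

open CfsgLib.Presented CfsgLib.Presented.Vec

theorem xW_pow : trivOK xW 23 = true := by decide +kernel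

theorem bW_pow : trivOK bW 11 = true := by decide +kernel

theorem cW_pow : trivOK cW 3 = true := by decide +kernel

theorem twin_rel : trivOK (0 :: (cW ++ 0 :: (candW 1 2).reverse)) 1 = true := by decide +kernel

theorem twin_ne : !(Nat.beq (fAt (0 :: (cW ++ 0 :: cW.reverse)) 2) 2) = true := by decide +kernel

theorem pow_ne : (!(Nat.beq (md.powAt xW 1 2) 2) && !(Nat.beq (md.powAt bW 1 2) 2)) = true := by decide +kernel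

theorem c_points : (Nat.beq (fAt cW 0) dPt && Nat.beq (fAt cW.reverse 0) ePt) = true := by decide +kernel

theorem cand_pow {r s : ℕ} (hr : r < 3) (hs : s < 4) : md.val (candW r s) ^ candExp r = 1 := by
  rcases (by omega : (r = 0 ∧ s = 0) ∨ (r = 0 ∧ s = 1) ∨ (r = 0 ∧ s = 2) ∨ (r = 0 ∧ s = 3) ∨ (r = 1 ∧ s = 0) ∨ (r = 1 ∧ s = 1) ∨ (r = 1 ∧ s = 2) ∨ (r = 1 ∧ s = 3) ∨ (r = 2 ∧ s = 0) ∨ (r = 2 ∧ s = 1) ∨ (r = 2 ∧ s = 2) ∨ (r = 2 ∧ s = 3)) with ⟨rfl, rfl⟩ | ⟨rfl, rfl⟩ | ⟨rfl, rfl⟩ | ⟨rfl, rfl⟩ | ⟨rfl, rfl⟩ | ⟨rfl, rfl⟩ | ⟨rfl, rfl⟩ | ⟨rfl, rfl⟩ | ⟨rfl, rfl⟩ | ⟨rfl, rfl⟩ | ⟨rfl, rfl⟩ | ⟨rfl, rfl⟩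
  exacts [trivOK_spec cand_pow00, trivOK_spec cand_pow01, trivOK_spec cand_pow02, trivOK_spec cand_pow03, trivOK_spec cand_pow10, trivOK_spec cand_pow11, trivOK_spec cand_pow12, trivOK_spec cand_pow13, trivOK_spec cand_pow20, trivOK_spec cand_pow21, trivOK_spec cand_pow22, trivOK_spec cand_pow23]

theorem kill {j r s : ℕ} (hj : j = 1 ∨ j = 5) (hr : r < 3) (hs : s < 4) (hne : ¬ (j = 1 ∧ r = 1 ∧ (s = 0 ∨ s = 2))) :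
    ∃ p, killOK j r s p = true := by
  rcases hj with rfl | rfl <;> rcases (by omega : (r = 0 ∧ s = 0) ∨ (r = 0 ∧ s = 1) ∨ (r = 0 ∧ s = 2) ∨ (r = 0 ∧ s = 3) ∨ (r = 1 ∧ s = 0) ∨ (r = 1 ∧ s = 1) ∨ (r = 1 ∧ s = 2) ∨ (r = 1 ∧ s = 3) ∨ (r = 2 ∧ s = 0) ∨ (r = 2 ∧ s = 1) ∨ (r = 2 ∧ s = 2) ∨ (r = 2 ∧ s = 3)) with ⟨rfl, rfl⟩ | ⟨rfl, rfl⟩ | ⟨rfl, rfl⟩ | ⟨rfl, rfl⟩ | ⟨rfl, rfl⟩ | ⟨rfl, rfl⟩ | ⟨rfl, rfl⟩ | ⟨rfl, rfl⟩ | ⟨rfl, rfl⟩ | ⟨rfl, rfl⟩ | ⟨rfl, rfl⟩ | ⟨rfl, rfl⟩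
  exacts [⟨_, kill100⟩,
    ⟨_, kill101⟩,
    ⟨_, kill102⟩,
    ⟨_, kill103⟩,
    absurd ⟨rfl, rfl, Or.inl rfl⟩ hne,
    ⟨_, kill111⟩,
    absurd ⟨rfl, rfl, Or.inr rfl⟩ hne,
    ⟨_, kill113⟩,
    ⟨_, kill120⟩,
    ⟨_, kill121⟩,
    ⟨_, kill122⟩,
    ⟨_, kill123⟩,
    ⟨_, kill500⟩,
    ⟨_, kill501⟩,
    ⟨_, kill502⟩,
    ⟨_, kill503⟩,
    ⟨_, kill510⟩,
    ⟨_, kill511⟩,
    ⟨_, kill512⟩,
    ⟨_, kill513⟩,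
    ⟨_, kill520⟩,
    ⟨_, kill521⟩,
    ⟨_, kill522⟩,
    ⟨_, kill523⟩]

end CfsgLib.Fi24Out
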