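import Cfsg.Agent.Lib.ONOut.Base

/-!
Evaluation of words of a table at single points and on bit sets, arranged for the kernel.
-/
set_option autoImplicit false
set_option maxRecDepth 20000

namespace CfsgLib.Fi24Out

open CfsgLib.Presented CfsgLib.Presented.Vec
open CfsgLib.ONOut (stageAt netAt netAt_eq wordAt wordAt_eq stageAt_eq)

/-- Where a stage sends a point, without branching. -/
noncomputable def stageVal (s : Stage) (i : ℕ) : ℕ :=
  Stage.rec (motive := fun _ => ℕ) (fun d m =>
    Nat.sub (Nat.add i (Nat.mul d (Nat.land (Nat.shiftRight m i) 1)))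
      (Nat.mul d (Nat.land (Nat.shiftRight (Nat.shiftLeft m d) i) 1))) s

theorem land_bit (v i : ℕ) : Nat.land (Nat.shiftRight v i) 1 = cond (v.testBit i) 1 0 := by
  show (v >>> i) &&& 1 = _
  rw [Nat.and_one_is_mod, Nat.testBit_eq_decide_div_mod_eq, Nat.shiftRight_eq_div_pow]
  rcases Nat.mod_two_eq_zero_or_one (v / 2 ^ i) with h | h <;> simp [h]

theorem stageVal_eq {s : Stage} (h : s.ok = true) (i : ℕ) : stageVal s i = stageAt s i := by
  have hd := Stage.mask_disjoint h
  cases s with
  | mk d m =>
    simp only [stageVal, stageAt, land_bit, Nat.mul_eq, Nat.add_eq, Nat.sub_eq]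
    rw [show (Nat.shiftLeft m d).testBit i = (decide (d ≤ i) && m.testBit (i - d)) by
      show (m <<< d).testBit i = _; simp]
    cases hm : m.testBit i
    · by_cases hdi : d ≤ i
      · cases hm2 : m.testBit (i - d) <;> simp [Nat.ble_eq.mpr hdi, hdi]
      · have hb : Nat.ble d i = false := by
          rw [← Bool.not_eq_true]
          exact fun hb => hdi (Nat.ble_eq.mp hb)
        simp [hb, hdi]
    · by_cases hdi : d ≤ i
      · have hm2 : m.testBit (i - d) = false := by
          cases h2 : m.testBit (i - d)
          · rfl
          · have := hd (i - d) h2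
            simp only [Nat.sub_add_cancel hdi] at this
            rw [hm] at this
            exact absurd this (by simp)
        simp [hm2]
      · simp [hdi]

/-- Run reversed stages, passing values on. -/
noncomputable def runStages (l : List Stage) : ℕ → ℕ :=
  List.rec (motive := fun _ => ℕ → ℕ) (fun i => i) (fun s _ ih i => force (stageVal s i) fun j => ih j) l

/-- Run a reversed word, passing values on. -/
noncomputable def runWord (R : Rep) (w : List ℕ) : ℕ → ℕ :=
  List.rec (motive := fun _ => ℕ → ℕ) (fun i => i)
    (fun x _ ih i => force (runStages (R.net x).reverse i) fun j => ih j) w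

/-- Where a word sends a point. -/
noncomputable def ptAt (R : Rep) (w : List ℕ) (i : ℕ) : ℕ := runWord R w.reverse i

theorem runStages_eq : ∀ {l : List Stage}, netOk l = true → ∀ (k : List Stage) (i : ℕ),
    runStages (l.reverse ++ k) i = runStages k (netAt l i)
  | [], _, _, _ => rfl
  | s :: l, h, k, i => by
    simp only [netOk, List.all_cons, Bool.and_eq_true] at h
    rw [List.reverse_cons, List.append_assoc, runStages_eq (l := l) h.2, List.singleton_append]
    show (force (stageVal s (netAt l i)) fun j => runStages k j) = runStages k (force (netAt l i) fun j => stageAt s j)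
    rw [force_eq, force_eq, stageVal_eq h.1]

theorem runWord_eq {R : Rep} (hR : R.valid = true) : ∀ (w k : List ℕ) (i : ℕ),
    runWord R (w.reverse ++ k) i = runWord R k (wordAt R w i)
  | [], _, _ => rfl
  | x :: w, k, i => by
    rw [List.reverse_cons, List.append_assoc, runWord_eq hR w, List.singleton_append]
    show (force (runStages (R.net x).reverse (wordAt R w i)) fun j => runWord R k j) =
      runWord R k (force (wordAt R w i) fun j => netAt (R.net x) j)
    rw [force_eq, force_eq]
    have h := runStages_eq ((Rep.valid_spec hR).2.2.1 x) [] (wordAt R w i)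
    rw [List.append_nil] at h
    rw [h]
    rfl

/-- The value of `ptAt`. -/
theorem ptAt_eq {R : Rep} (hR : R.valid = true) (w : List ℕ) (i : Fin R.N) :
    ptAt R w i = (evW (R.perm hR) w i : ℕ) := by
  have h := runWord_eq hR w [] (i : ℕ)
  rw [List.append_nil] at h
  rw [ptAt, h]
  exact wordAt_eq hR w i

/-- The image of a bit set under a word. -/
noncomputable def imgSet (R : Rep) (w : List ℕ) (S : ℕ) : ℕ := applyNet (R.netW w) S

/-- A point is in `imgSet R w S` exactly when `w` sends it into `S`. -/
theorem testBit_imgSet {R : Rep} (hR : R.valid = true) (w : List ℕ) (S : ℕ) (i : Fin R.N) :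
    (imgSet R w S).testBit i = S.testBit (evW (R.perm hR) w i : ℕ) := by
  rw [imgSet, testBit_applyNet (Rep.netOk_netW hR w), Rep.netW_perm hR]

/-- The points moved by a word. -/
noncomputable def moved (R : Rep) (w : List ℕ) : ℕ :=
  (slices R.m).foldr (fun s acc => force acc fun acc => Nat.lor (Nat.xor (imgSet R w s) s) acc) 0

theorem moved_spec {R : Rep} (h : R.valid = true) (w : List ℕ) {i : Fin R.N}
    (hb : (moved R w).testBit i = true) : evW (R.perm h) w i ≠ i := by
  have key : ∀ l : List ℕ, (l.foldr (fun s acc => force acc fun acc =>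
      Nat.lor (Nat.xor (imgSet R w s) s) acc) 0).testBit i = true →
      ∃ s ∈ l, s.testBit (evW (R.perm h) w i : ℕ) ≠ s.testBit i := by
    intro l
    induction l with
    | nil => simp
    | cons s l ih =>
      intro hl
      rw [List.foldr_cons, force_eq] at hl
      change Nat.testBit ((_ ^^^ _) ||| _) _ = true at hl
      rw [Nat.testBit_or, Bool.or_eq_true] at hl
      rcases hl with hl | hl
      · refine ⟨s, List.mem_cons_self, fun he => ?_⟩
        rw [Nat.testBit_xor, testBit_imgSet h, he] at hl
        simp at hl
      · obtain ⟨t, ht, hne⟩ := ih hl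
        exact ⟨t, List.mem_cons_of_mem _ ht, hne⟩
  obtain ⟨s, -, hne⟩ := key _ hb
  exact fun he => hne (by rw [he])

/-- The set of the listed points. -/
noncomputable def ptsSet (l : List ℕ) : ℕ := l.foldr (fun q acc => Nat.lor (Nat.shiftLeft 1 q) acc) 0

theorem ptsSet_spec : ∀ {l : List ℕ} {p : ℕ}, (ptsSet l).testBit p = true → p ∈ l
  | [], p, h => by simp [ptsSet] at h
  | q :: l, p, h => by
    change Nat.testBit ((1 <<< q) ||| ptsSet l) p = true at h
    rw [Nat.testBit_or, Bool.or_eq_true] at h
    rcases h with h | h
    · rw [Nat.testBit_shiftLeft, Bool.and_eq_true, decide_eq_true_eq] at h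
      have := VCert.one_bit h.2
      exact List.mem_cons.2 (Or.inl (by omega))
    · exact List.mem_cons_of_mem _ (ptsSet_spec h)

/-- Whether `S` is contained in `T` on the points of the table. -/
noncomputable def subOn (R : Rep) (S T : ℕ) : Bool :=
  Nat.beq (Nat.land (Nat.land S T) (ones R.N)) (Nat.land S (ones R.N))

theorem subOn_spec {R : Rep} {S T : ℕ} (h : subOn R S T = true) (i : Fin R.N) (hi : S.testBit i = true) :
    T.testBit i = true := by
  have h2 := congrArg (fun n => n.testBit (i : ℕ)) (Nat.eq_of_beq_eq_true h)
  change Nat.testBit ((S &&& T) &&& _) _ = Nat.testBit (S &&& _) _ at h2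
  simp only [Nat.testBit_and, testBit_ones, decide_eq_true i.2, Bool.and_true, hi, Bool.true_and] at h2
  exact h2

end CfsgLib.Fi24Out
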