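import Cfsg.Agent.Lib.Fi24Out.Main
import Cfsg.Agent.Lib.ThreeTrans.Inst.FiTwentyFour
import Cfsg.Agent.S1691

/-!
A group with a self-centralising subgroup of index two isomorphic to Fi24' is Fi24.
-/
set_option autoImplicit false
set_option maxRecDepth 20000
set_option Elab.async false

namespace CfsgLib.Fi24Out

open CfsgLib.Presented
open Cfsg.Agent.S1691 (sgn)

theorem centralizer_commutator :
    Subgroup.centralizer ((commutator Cfsg.Spor.Fi24) : Set Cfsg.Spor.Fi24) = ⊥ := by
  have hinj : ∀ y, y ∈ Subgroup.centralizer ((commutator Cfsg.Spor.Fi24) : Set Cfsg.Spor.Fi24) →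
      sgn y = 1 → y = 1 := by
    intro y hy hs
    have : IsSimpleGroup Cfsg.Spor.Fi24' := Fi24Simple.simple
    have hc : (⟨y, mem_comm_iff.2 hs⟩ : Cfsg.Spor.Fi24') ∈ Subgroup.center Cfsg.Spor.Fi24' :=
      Subgroup.mem_center_iff.2 fun g => Subtype.ext ((Subgroup.mem_centralizer_iff.1 hy) g g.2)
    rcases IsSimpleGroup.eq_bot_or_eq_top_of_normal (Subgroup.center Cfsg.Spor.Fi24') inferInstance with hb | ht
    · rw [hb, Subgroup.mem_bot] at hc
      exact congrArg Subtype.val hc
    · exfalso
      have hx : ∀ a b : Cfsg.Spor.Fi24', a * b = b * a := fun a b =>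
        Subgroup.mem_center_iff.1 (ht ▸ Subgroup.mem_top b) a
      have h1 : aG = 1 := by
        have e : bG * aG * bG⁻¹ = aG ^ 6 := Subtype.ext conj_x
        rw [hx bG aG, mul_inv_cancel_right] at e
        have h5 : aG ^ 5 = 1 := by
          have e' : aG * aG ^ 5 = aG * 1 := by rw [← pow_succ', mul_one]; exact e.symm
          exact mul_left_cancel e'
        have h23 : aG ^ 23 = 1 := Subtype.ext powers_facts.1
        calc aG = aG ^ (5 * 14) * (aG ^ (23 * 3))⁻¹ := by group
          _ = 1 := by rw [pow_mul, pow_mul, h5, h23]; simp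
      exact absurd (congrArg Subtype.val h1) uX_ne
  refine (Subgroup.eq_bot_iff_forall _).2 fun y hy => ?_
  rcases (by decide : ∀ m : Multiplicative (ZMod 2), m = 1 ∨ m = Multiplicative.ofAdd 1) (sgn y) with h | h
  · exact hinj y hy h
  · exfalso
    refine outer_not_inner ⟨⟨zEl * y, ?_⟩, ?_⟩
    · rw [mem_comm_iff, map_mul, sgn_zEl, h]
      decide
    · ext x
      rw [outer, MulAut.conjNormal_apply, MulAut.conj_apply]
      have hx : (x : Cfsg.Spor.Fi24) * y = y * x := Subgroup.mem_centralizer_iff.1 hy x x.2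
      show zEl * y * (x : Cfsg.Spor.Fi24) * (zEl * y)⁻¹ = zEl * x * zEl⁻¹
      rw [mul_assoc zEl y, ← hx]
      group

theorem index_commutator : (commutator Cfsg.Spor.Fi24).index = 2 := by
  have hk : commutator Cfsg.Spor.Fi24 = sgn.ker := by
    ext g; rw [MonoidHom.mem_ker, mem_comm_iff]
  rw [hk, Subgroup.index_ker, MonoidHom.range_eq_top.2, Subgroup.card_top]
  · simp
  · intro m
    rcases (by decide : ∀ m : Multiplicative (ZMod 2), m = 1 ∨ m = Multiplicative.ofAdd 1) m with h | h
    · exact ⟨1, by rw [map_one, h]⟩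
    · exact ⟨zEl, by rw [sgn_zEl, h]⟩

/-- An isomorphism onto the automorphism group of a normal subgroup with trivial centraliser. -/
theorem conjNormal_bijective {G : Type*} [Group G] [Finite G] (N : Subgroup G) [N.Normal]
    (hc : Subgroup.centralizer (N : Set G) = ⊥) (h : Nat.card (MulAut N) ≤ Nat.card G) :
    Function.Bijective (MulAut.conjNormal : G →* MulAut N) := by
  have hinj : Function.Injective (MulAut.conjNormal : G →* MulAut N) := by
    refine (injective_iff_map_eq_one _).2 fun g hg => ?_
    rw [← Subgroup.mem_bot, ← hc, Subgroup.mem_centralizer_iff]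
    intro x hx
    have e := congrArg Subtype.val (DFunLike.congr_fun hg (⟨x, hx⟩ : N))
    rw [MulAut.conjNormal_apply, MulAut.one_apply] at e
    calc x * g = g * x * g⁻¹ * g := by rw [e]
      _ = g * x := by group
  exact Function.Injective.bijective_of_nat_card_le hinj h

theorem card_mulAut {N : Type} [Group N] [Finite N] (hz : Subgroup.center N = ⊥) :
    Nat.card (MulAut N) = Nat.card (Cfsg.Out N) * Nat.card N := by
  have h := Subgroup.card_eq_card_quotient_mul_card_subgroup (Cfsg.Inn N)
  rw [h]
  congr 1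
  have hinj : Function.Injective (MulAut.conj : N →* MulAut N) := by
    refine (injective_iff_map_eq_one _).2 fun g hg => ?_
    rw [← Subgroup.mem_bot, ← hz, Subgroup.mem_center_iff]
    intro x
    have e := DFunLike.congr_fun hg x
    rw [MulAut.conj_apply, MulAut.one_apply] at e
    calc x * g = g * x * g⁻¹ * g := by rw [e]
      _ = g * x := by group
  exact (Nat.card_congr (MonoidHom.ofInjective hinj).toEquiv).symm

/-- An isomorphism of groups carries automorphisms across. -/
noncomputable def autEquiv {M N : Type*} [Group M] [Group N] (e : M ≃* N) : MulAut M ≃* MulAut N where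
  toFun f := (e.symm.trans f).trans e
  invFun f := (e.trans f).trans e.symm
  left_inv f := by ext; simp
  right_inv f := by ext; simp
  map_mul' f g := by ext; simp

theorem iso_fi24_of_index_two {G : Type*} [Group G] [Finite G] (N : Subgroup G) [N.Normal]
    (e : N ≃* Cfsg.Spor.Fi24') (hi : N.index = 2) (hc : Subgroup.centralizer (N : Set G) = ⊥) :
    Nonempty (G ≃* Cfsg.Spor.Fi24) := by
  have := finite'
  have : Finite Cfsg.Spor.Fi24 := CfsgLib.ThreeTrans.Inst.FiTwentyFour.finite_fi24
  have : IsSimpleGroup Cfsg.Spor.Fi24' := Fi24Simple.simple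
  have hz : Subgroup.center Cfsg.Spor.Fi24' = ⊥ := by
    rcases IsSimpleGroup.eq_bot_or_eq_top_of_normal (Subgroup.center Cfsg.Spor.Fi24') inferInstance with hb | ht
    · exact hb
    · refine (Subgroup.eq_bot_iff_forall _).2 fun y hy => Subtype.ext ?_
      show (y : Cfsg.Spor.Fi24) = 1
      rw [← Subgroup.mem_bot, ← centralizer_commutator, Subgroup.mem_centralizer_iff]
      intro x hx
      exact congrArg Subtype.val (Subgroup.mem_center_iff.1 hy ⟨x, hx⟩)
  have hA : Nat.card (MulAut Cfsg.Spor.Fi24') = 2 * Nat.card Cfsg.Spor.Fi24' := by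
    rw [card_mulAut hz, card_out]
  have h1 : Nat.card (MulAut N) ≤ Nat.card G := by
    rw [Nat.card_congr (autEquiv e).toEquiv, hA, ← Subgroup.card_mul_index N, hi, Nat.card_congr e.toEquiv,
      mul_comm]
  have h2 : Nat.card (MulAut (commutator Cfsg.Spor.Fi24)) ≤ Nat.card Cfsg.Spor.Fi24 := by
    rw [hA, ← Subgroup.card_mul_index (commutator Cfsg.Spor.Fi24), index_commutator, mul_comm]
  exact ⟨((MulEquiv.ofBijective _ (conjNormal_bijective N hc h1)).trans (autEquiv e)).trans
    (MulEquiv.ofBijective _ (conjNormal_bijective _ centralizer_commutator h2)).symm⟩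

end CfsgLib.Fi24Out
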