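import Cfsg.Agent.Lib.Fi24Out.Eval
import Mathlib.Data.Nat.ModEq

/-!
Lookup trees for tables: each leaf holds the bit planes of the images of 512 consecutive points, and one
value is read off with a shift, a mask and a remainder.
-/
set_option autoImplicit false
set_option maxRecDepth 20000

namespace CfsgLib.Fi24Out

open CfsgLib.Presented CfsgLib.Presented.Vec

/-- Trees of leaves; a node records the number of leaves of its left part. -/
inductive LTree where
  | leaf (v : ℕ)
  | node (n : ℕ) (l r : LTree)

/-- The leaf with a given index. -/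
noncomputable def LTree.get (t : LTree) : ℕ → ℕ :=
  LTree.rec (motive := fun _ => ℕ → ℕ) (fun v q => cond (Nat.beq q 0) v 0)
    (fun n _ _ ihl ihr q => cond (Nat.blt q n) (ihl q) (force (Nat.sub q n) fun q => ihr q)) t

/-- A bit plane, with all leaves joined. -/
noncomputable def LTree.plane (b : ℕ) (t : LTree) : ℕ :=
  LTree.rec (motive := fun _ => ℕ) (fun v => Nat.land (Nat.shiftRight v (512 * b)) (ones 512))
    (fun n _ _ ihl ihr => Nat.lor (Nat.land ihl (ones (512 * n))) (Nat.shiftLeft ihr (512 * n))) t

theorem LTree.testBit_plane (b : ℕ) : ∀ (t : LTree) (i : ℕ),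
    (t.plane b).testBit i = (t.get (i / 512)).testBit (512 * b + i % 512)
  | .leaf v, i => by
    show ((v >>> (512 * b)) &&& ones 512).testBit i = (cond (Nat.beq (i / 512) 0) v 0).testBit _
    rw [Nat.testBit_and, testBit_ones, Nat.testBit_shiftRight]
    by_cases h : i < 512
    · have : Nat.beq (i / 512) 0 = true := by rw [Nat.div_eq_of_lt h]; rfl
      simp [this, h, Nat.mod_eq_of_lt h]
    · have : Nat.beq (i / 512) 0 = false := by
        rw [← Bool.not_eq_true]
        intro hq
        have := Nat.eq_of_beq_eq_true hq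
        omega
      simp [this, h]
  | .node n l r, i => by
    show ((l.plane b &&& ones (512 * n)) ||| (r.plane b <<< (512 * n))).testBit i =
      (cond (Nat.blt (i / 512) n) (l.get (i / 512)) (force (i / 512 - n) fun q => r.get q)).testBit _
    rw [force_eq, Nat.testBit_or, Nat.testBit_and, testBit_ones, Nat.testBit_shiftLeft,
      LTree.testBit_plane b l, LTree.testBit_plane b r]
    by_cases h : i < 512 * n
    · have : Nat.blt (i / 512) n = true := Nat.blt_eq.mpr (by omega)
      simp [this, h, show ¬ 512 * n ≤ i by omega]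
    · have : Nat.blt (i / 512) n = false := by
        rw [← Bool.not_eq_true, Nat.blt_eq]; omega
      have e1 : (i - 512 * n) / 512 = i / 512 - n := by
        rw [Nat.sub_mul_div]
      have e2 : (i - 512 * n) % 512 = i % 512 := by omega
      simp [this, h, show 512 * n ≤ i by omega, e1, e2]

/-- One bit in every 512. -/
def strideMask : ℕ → ℕ
  | 0 => 0
  | n + 1 => 1 + strideMask n * 2 ^ 512

/-- The bits of `w` in places divisible by 512, pushed together. -/
def compress : ℕ → ℕ → ℕ
  | 0, _ => 0
  | n + 1, w => (w.testBit 0).toNat + 2 * compress n (w >>> 512)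

theorem compress_lt : ∀ n w, compress n w < 2 ^ n
  | 0, _ => by simp [compress]
  | n + 1, w => by
    have := compress_lt n (w >>> 512)
    have := Bool.toNat_le (w.testBit 0)
    rw [compress, pow_succ]
    omega

theorem testBit_compress : ∀ n w b, (compress n w).testBit b = (decide (b < n) && w.testBit (512 * b))
  | 0, w, b => by simp [compress]
  | n + 1, w, b => by
    rw [compress]
    cases b with
    | zero =>
      rw [Nat.testBit_zero]
      cases w.testBit 0 <;> simp
    | succ b =>
      rw [Nat.testBit_succ]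
      have : ((w.testBit 0).toNat + 2 * compress n (w >>> 512)) / 2 = compress n (w >>> 512) := by
        have := Bool.toNat_le (w.testBit 0)
        omega
      rw [this, testBit_compress n, Nat.testBit_shiftRight]
      simp [Nat.mul_add, Nat.add_comm 512]

theorem and_stride : ∀ n w, (w &&& strideMask (n + 1)) =
    (w.testBit 0).toNat + ((w >>> 512) &&& strideMask n) * 2 ^ 512 := by
  intro n w
  rw [strideMask]
  refine Nat.eq_of_testBit_eq fun i => ?_
  have hb : (w.testBit 0).toNat < 2 ^ 512 :=
    lt_of_le_of_lt (Bool.toNat_le _) (Nat.one_lt_two_pow (by norm_num))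
  rw [Nat.testBit_and, Nat.add_comm 1, Nat.add_comm (w.testBit 0).toNat,
    Nat.mul_comm (strideMask n), Nat.mul_comm ((w >>> 512) &&& strideMask n),
    Nat.testBit_two_pow_mul_add _ (Nat.one_lt_two_pow (by norm_num)),
    Nat.testBit_two_pow_mul_add _ hb]
  by_cases hi : i < 512
  · rw [if_pos hi, if_pos hi]
    cases i with
    | zero => cases w.testBit 0 <;> simp
    | succ i =>
      have h1 : ∀ k, k ≤ 1 → k.testBit (i + 1) = false := fun k hk =>
        Nat.testBit_lt_two_pow (lt_of_le_of_lt hk (Nat.one_lt_two_pow (by omega)))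
      rw [h1 1 le_rfl, h1 _ (Bool.toNat_le _), Bool.and_false]
  · rw [if_neg hi, if_neg hi, Nat.testBit_and, Nat.testBit_shiftRight, Nat.add_sub_cancel' (by omega)]

theorem stride_mod : ∀ n w, (w &&& strideMask n) ≡ compress n w [MOD 2 ^ 512 - 2]
  | 0, w => by simp [strideMask, compress, Nat.ModEq]
  | n + 1, w => by
    rw [and_stride, compress]
    refine Nat.ModEq.add_left _ ?_
    have h2 : 2 ^ 512 ≡ 2 [MOD 2 ^ 512 - 2] := by
      have hle : 2 ≤ 2 ^ 512 := Nat.le_self_pow (by norm_num) 2
      have h : 2 ^ 512 - 2 + 2 ≡ 2 [MOD 2 ^ 512 - 2] := Nat.add_modEq_left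
      rwa [Nat.sub_add_cancel hle] at h
    have := (stride_mod n (w >>> 512)).mul h2
    rw [Nat.mul_comm (compress n _) 2] at this
    exact this

/-- Read the value of a point off a tree. -/
noncomputable def LTree.val (M P : ℕ) (t : LTree) (i : ℕ) : ℕ :=
  force (Nat.shiftRight i 9) fun q =>
    Nat.mod (Nat.land (Nat.shiftRight (t.get q) (Nat.land i 511)) M) P

theorem LTree.testBit_val (t : LTree) {m : ℕ} (hm : m < 512) {M P : ℕ} (hM : M = strideMask m)
    (hP : P = 2 ^ 512 - 2) (i b : ℕ) :
    (t.val M P i).testBit b = (decide (b < m) && (t.plane b).testBit i) := by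
  rw [LTree.val, force_eq, LTree.testBit_plane]
  show (((t.get (i >>> 9)) >>> (i &&& 511) &&& M) % P).testBit b = _
  rw [show i >>> 9 = i / 512 by rw [Nat.shiftRight_eq_div_pow],
    show i &&& 511 = i % 512 from Nat.and_two_pow_sub_one_eq_mod i 9, hM, hP, stride_mod m,
    Nat.mod_eq_of_lt (lt_of_lt_of_le (compress_lt m _) ?_), testBit_compress, Nat.testBit_shiftRight,
    Nat.add_comm]
  have h1 : 2 ^ m * 2 ≤ 2 ^ 512 := by
    rw [← pow_succ]
    exact Nat.pow_le_pow_right (by norm_num) hm
  have := Nat.one_le_two_pow (n := m)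
  omega

/-- A tree agrees with a letter of a table in one bit. -/
noncomputable def treeBitOK (R : Rep) (x : ℕ) (t : LTree) (b : ℕ) : Bool :=
  force ((slices R.m).getD b 0) fun s => agreeOn R.N (t.plane b) (imgSet R [x] s)

theorem LTree.val_eq {R : Rep} (hR : R.valid = true) {x : ℕ} {t : LTree}
    (h : ((List.range R.m).all fun b => treeBitOK R x t b) = true) {M P : ℕ} (hm : R.m < 512)
    (hM : M = strideMask R.m) (hP : P = 2 ^ 512 - 2) (i : Fin R.N) :
    t.val M P i = (R.perm hR x i : ℕ) := by
  have hN := (Rep.valid_spec hR).2.1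
  refine Nat.eq_of_testBit_eq fun b => ?_
  rw [LTree.testBit_val t hm hM hP]
  by_cases hb : b < R.m
  · have hlt : (R.perm hR x i : ℕ) < 2 ^ R.m := lt_of_lt_of_le (R.perm hR x i).2 hN
    have h1 := List.all_eq_true.1 h b (List.mem_range.2 hb)
    rw [treeBitOK, force_eq] at h1
    rw [agreeOn_spec h1 i.2, testBit_imgSet hR, evW_cons, evW_nil, mul_one, (slices_spec R.m).2 b hb]
    rw [Rep.perm_val] at hlt ⊢
    simp [hb, hlt]
  · rw [Nat.testBit_lt_two_pow (lt_of_lt_of_le (lt_of_lt_of_le (R.perm hR x i).2 hN)
      (Nat.pow_le_pow_right (by norm_num) (not_lt.1 hb)))]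
    simp [hb]

end CfsgLib.Fi24Out
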