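import Cfsg.Agent.Lib.Fi24Out.Tree0
import Cfsg.Agent.Lib.Fi24Out.Tree1
import Cfsg.Agent.Lib.Fi24Out.Tree2
import Cfsg.Agent.Lib.Fi24Out.Tree3
import Cfsg.Agent.Lib.Fi24Out.Tree4
import Cfsg.Agent.Lib.Fi24Out.Tree5
import Cfsg.Agent.Lib.Fi24Out.Tree6
import Cfsg.Agent.Lib.Fi24Out.Tree7
import Cfsg.Agent.Lib.Fi24Out.Tree8
import Cfsg.Agent.Lib.Fi24Out.Tree9
import Cfsg.Agent.Lib.Fi24Out.Tree10
import Cfsg.Agent.Lib.Fi24Out.Tree11
import Cfsg.Agent.Lib.Fi24Out.Lookup
import Cfsg.Agent.Lib.Presented.Fi24.Valid

/-! Fast evaluation of words on the points of Fi24. -/
set_option autoImplicit false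
set_option maxRecDepth 20000
set_option Elab.async false
set_option exponentiation.threshold 1024

namespace CfsgLib.Fi24Out

open CfsgLib.Presented CfsgLib.Presented.Vec
open Fi24Cert (rep rep_valid)

/-- The stride mask for 19 planes. -/
def mask19 : ℕ := 0x1000000000000000000000000000000000000000000000000000000000000000000000000000000000000000000000000000000000000000000000000000000010000000000000000000000000000000000000000000000000000000000000000000000000000000000000000000000000000000000000000000000000000000100000000000000000000000000000000000000000000000000000000000000000000000000000000000000000000000000000000000000000000000000000001000000000000000000000000000000000000000000000000000000000000000000000000000000000000000000000000000000000000000000000000000000010000000000000000000000000000000000000000000000000000000000000000000000000000000000000000000000000000000000000000000000000000000100000000000000000000000000000000000000000000000000000000000000000000000000000000000000000000000000000000000000000000000000000001000000000000000000000000000000000000000000000000000000000000000000000000000000000000000000000000000000000000000000000000000000010000000000000000000000000000000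000000000000000000000000000000000000000000000000000000000000000000000000000000000000000000000000100000000000000000000000000000000000000000000000000000000000000000000000000000000000000000000000000000000000000000000000000000001000000000000000000000000000000000000000000000000000000000000000000000000000000000000000000000000000000000000000000000000000000010000000000000000000000000000000000000000000000000000000000000000000000000000000000000000000000000000000000000000000000000000000100000000000000000000000000000000000000000000000000000000000000000000000000000000000000000000000000000000000000000000000000000001000000000000000000000000000000000000000000000000000000000000000000000000000000000000000000000000000000000000000000000000000000010000000000000000000000000000000000000000000000000000000000000000000000000000000000000000000000000000000000000000000000000000000100000000000000000000000000000000000000000000000000000000000000000000000000000000000000000000000000000000000000000000000000000001000000000000000000000000000000000000000000000000000000000000000000000000000000000000000000000000000000000000000000000000000000010000000000000000000000000000000000000000000000000000000000000000000000000000000000000000000000000000000000000000000000000000000100000000000000000000000000000000000000000000000000000000000000000000000000000000000000000000000000000000000000000000000000000001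

/-- The modulus. -/
def modP : ℕ := 0xfffffffffffffffffffffffffffffffffffffffffffffffffffffffffffffffffffffffffffffffffffffffffffffffffffffffffffffffffffffffffffffffe

theorem mask_ok : (Nat.beq mask19 (strideMask 19) && Nat.beq modP (2 ^ 512 - 2) && Nat.beq rep.m 19) = true := by
  decide +kernel

theorem tree0_ok : ((List.range rep.m).all fun b => treeBitOK rep 0 tree0 b) = true := by decide +kernel

theorem tree1_ok : ((List.range rep.m).all fun b => treeBitOK rep 1 tree1 b) = true := by decide +kernel

theorem tree2_ok : ((List.range rep.m).all fun b => treeBitOK rep 2 tree2 b) = true := by decide +kernel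

theorem tree3_ok : ((List.range rep.m).all fun b => treeBitOK rep 3 tree3 b) = true := by decide +kernel

theorem tree4_ok : ((List.range rep.m).all fun b => treeBitOK rep 4 tree4 b) = true := by decide +kernel

theorem tree5_ok : ((List.range rep.m).all fun b => treeBitOK rep 5 tree5 b) = true := by decide +kernel

theorem tree6_ok : ((List.range rep.m).all fun b => treeBitOK rep 6 tree6 b) = true := by decide +kernel

theorem tree7_ok : ((List.range rep.m).all fun b => treeBitOK rep 7 tree7 b) = true := by decide +kernel

theorem tree8_ok : ((List.range rep.m).all fun b => treeBitOK rep 8 tree8 b) = true := by decide +kernel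

theorem tree9_ok : ((List.range rep.m).all fun b => treeBitOK rep 9 tree9 b) = true := by decide +kernel

theorem tree10_ok : ((List.range rep.m).all fun b => treeBitOK rep 10 tree10 b) = true := by decide +kernel

theorem tree11_ok : ((List.range rep.m).all fun b => treeBitOK rep 11 tree11 b) = true := by decide +kernel

/-- The tree of a letter. -/
noncomputable def treeOf (x : ℕ) : LTree :=
  (cond (Nat.blt x 6) (cond (Nat.blt x 3) (cond (Nat.blt x 1) tree0 (cond (Nat.blt x 2) tree1 tree2)) (cond (Nat.blt x 4) tree3 (cond (Nat.blt x 5) tree4 tree5))) (cond (Nat.blt x 9) (cond (Nat.blt x 7) tree6 (cond (Nat.blt x 8) tree7 tree8)) (cond (Nat.blt x 10) tree9 (cond (Nat.blt x 11) tree10 tree11))))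

theorem treeOf_ok {x : ℕ} (hx : x < 12) :
    ((List.range rep.m).all fun b => treeBitOK rep x (treeOf x) b) = true := by
  rcases (by omega : x = 0 ∨ x = 1 ∨ x = 2 ∨ x = 3 ∨ x = 4 ∨ x = 5 ∨ x = 6 ∨ x = 7 ∨ x = 8 ∨ x = 9 ∨ x = 10 ∨ x = 11)
    with rfl | rfl | rfl | rfl | rfl | rfl | rfl | rfl | rfl | rfl | rfl | rfl
  exacts [tree0_ok, tree1_ok, tree2_ok, tree3_ok, tree4_ok, tree5_ok, tree6_ok, tree7_ok, tree8_ok, tree9_ok, tree10_ok, tree11_ok]

theorem treeOf_val {x : ℕ} (hx : x < rep.A.eps) (i : Fin rep.N) :
    (treeOf x).val mask19 modP i = (rep.perm rep_valid x i : ℕ) := by
  have h := mask_ok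
  simp only [Bool.and_eq_true] at h
  have hm := Nat.eq_of_beq_eq_true h.2
  refine LTree.val_eq rep_valid (treeOf_ok hx) (by rw [hm]; norm_num) ?_ (Nat.eq_of_beq_eq_true h.1.2) i
  rw [hm]
  exact Nat.eq_of_beq_eq_true h.1.1

/-- Run a reversed word through the trees. -/
noncomputable def runFast (w : List ℕ) : ℕ → ℕ :=
  List.rec (motive := fun _ => ℕ → ℕ) (fun i => i)
    (fun x _ ih i => force ((treeOf x).val mask19 modP i) fun j => ih j) w

/-- Where a word sends a point. -/
noncomputable def fAt (w : List ℕ) (i : ℕ) : ℕ := runFast w.reverse i

theorem runFast_eq : ∀ (w k : List ℕ), (∀ x ∈ w, x < rep.A.eps) → ∀ i : Fin rep.N,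
    runFast (w.reverse ++ k) i = runFast k (evW (rep.perm rep_valid) w i : ℕ)
  | [], _, _, _ => rfl
  | x :: w, k, h, i => by
    rw [List.reverse_cons, List.append_assoc,
      runFast_eq w _ fun y hy => h y (List.mem_cons_of_mem _ hy), List.singleton_append]
    show (force ((treeOf x).val mask19 modP (evW (rep.perm rep_valid) w i : ℕ)) fun j => runFast k j) = _
    rw [force_eq, treeOf_val (h x List.mem_cons_self), evW_cons, Equiv.Perm.mul_apply]

/-- The value of `fAt`. -/
theorem fAt_eq (w : List ℕ) (h : ∀ x ∈ w, x < rep.A.eps) (i : Fin rep.N) :
    fAt w i = (evW (rep.perm rep_valid) w i : ℕ) := by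
  have h' := runFast_eq w [] h i
  rw [List.append_nil] at h'
  rw [fAt, h']
  rfl

end CfsgLib.Fi24Out
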