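import Cfsg.Agent.Lib.Fi24Out.XCent
import Cfsg.Agent.Lib.Fi24Out.BCent

/-!
The elements of order 23, 11 and 3 generate the commutator subgroup of Fi24.
-/
set_option autoImplicit false
set_option maxRecDepth 20000
set_option Elab.async false

namespace CfsgLib.Fi24Out

open CfsgLib.Presented CfsgLib.Presented.Vec
open Cfsg.Agent.S1691 (sgn)

/-- The element of order 3. -/
noncomputable abbrev uC : Cfsg.Spor.Fi24 := md.val cW

/-- The generated subgroup. -/
noncomputable def genK : Subgroup Cfsg.Spor.Fi24 := Subgroup.closure {uX, uB, uC}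

theorem three_ok : (md.okW xW && md.okW bW && md.okW cW && Nat.beq (xW.length % 2) 0 &&
    Nat.beq (bW.length % 2) 0 && Nat.beq (cW.length % 2) 0) = true := by decide +kernel

theorem sgn_three : sgn uX = 1 ∧ sgn uB = 1 ∧ sgn uC = 1 := by
  have h := three_ok
  simp only [Bool.and_eq_true] at h
  exact ⟨sgn_even (by rw [Bool.and_eq_true]; exact ⟨h.1.1.1.1.1, h.1.1.2⟩),
    sgn_even (by rw [Bool.and_eq_true]; exact ⟨h.1.1.1.1.2, h.1.2⟩),
    sgn_even (by rw [Bool.and_eq_true]; exact ⟨h.1.1.1.2, h.2⟩)⟩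

theorem sgn_genK {g : Cfsg.Spor.Fi24} (hg : g ∈ genK) : sgn g = 1 := by
  have h : genK ≤ sgn.ker := by
    rw [genK, Subgroup.closure_le]
    rintro y (rfl | rfl | rfl)
    exacts [MonoidHom.mem_ker.2 sgn_three.1, MonoidHom.mem_ker.2 sgn_three.2.1, MonoidHom.mem_ker.2 sgn_three.2.2]
  exact MonoidHom.mem_ker.1 (h hg)

/-- The transposition of the point of a group element. -/
noncomputable abbrev tr (g : Cfsg.Spor.Fi24) : Cfsg.Spor.Fi24 := g * zEl * g⁻¹

theorem tr_congr {g g' : Cfsg.Spor.Fi24} (h : md.phi g md.o = md.phi g' md.o) : tr g = tr g' := by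
  have h1 : md.phi (g⁻¹ * g') md.o = md.o := by
    rw [map_mul, Equiv.Perm.mul_apply, ← h, ← Equiv.Perm.mul_apply, ← map_mul, inv_mul_cancel, map_one,
      Equiv.Perm.one_apply]
  have h2 := mem_stab h1
  calc g * zEl * g⁻¹ = g * (zEl * (g⁻¹ * g')) * g'⁻¹ := by group
    _ = g * ((g⁻¹ * g') * zEl) * g'⁻¹ := by rw [h2]
    _ = g' * zEl * g'⁻¹ := by group

theorem tr_sq (g : Cfsg.Spor.Fi24) : tr g * tr g = 1 := by
  calc g * zEl * g⁻¹ * (g * zEl * g⁻¹) = g * (zEl * zEl) * g⁻¹ := by group
    _ = 1 := by rw [zEl_sq, mul_one, mul_inv_cancel]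

/-- The product of the central letter and the transposition of the point lies in the subgroup. -/
def InK (i : Pt) : Prop :=
  ∃ g, md.phi g md.o = i ∧ Commute zEl (tr g) ∧ zEl * tr g ∈ genK

theorem InK.conj {i : Pt} (h : InK i) {k : Cfsg.Spor.Fi24} (hk : k ∈ genK) (ho : md.phi k md.o = md.o) :
    InK (md.phi k i) := by
  obtain ⟨g, hg, hc, hm⟩ := h
  have hzk : k * zEl = zEl * k := mem_stab ho
  have e : tr (k * g) = k * tr g * k⁻¹ := by
    simp only [tr]; group
  have hkz : k * zEl * k⁻¹ = zEl := by rw [hzk]; group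
  have e2 : zEl * tr (k * g) = k * (zEl * tr g) * k⁻¹ := by
    rw [e]
    calc zEl * (k * tr g * k⁻¹) = (zEl * k) * tr g * k⁻¹ := by group
      _ = (k * zEl) * tr g * k⁻¹ := by rw [hzk]
      _ = _ := by group
  refine ⟨k * g, by rw [map_mul, Equiv.Perm.mul_apply, hg], ?_, ?_⟩
  · show zEl * tr (k * g) = tr (k * g) * zEl
    rw [e2, e]
    calc k * (zEl * tr g) * k⁻¹ = k * (tr g * zEl) * k⁻¹ := by rw [hc.eq]
      _ = (k * tr g * k⁻¹) * (k * zEl * k⁻¹) := by group
      _ = k * tr g * k⁻¹ * zEl := by rw [hkz]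
  · rw [e2]
    exact genK.mul_mem (genK.mul_mem hk hm) (genK.inv_mem hk)

theorem conj_aux {z a b : Cfsg.Spor.Fi24} (hz : z * z = 1) (ha : Commute z a) (hb : Commute z b) :
    z * (a * b * a⁻¹) = (z * a) * (z * b) * (z * a)⁻¹ := by
  have hzi : z⁻¹ = z := inv_eq_of_mul_eq_one_left hz
  have h1 : (z * a) * (z * b) = a * b := by
    calc (z * a) * (z * b) = (a * z) * (z * b) := by rw [ha.eq]
      _ = a * (z * z) * b := by group
      _ = a * b := by rw [hz, mul_one]
  rw [h1, mul_inv_rev, hzi]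
  calc z * (a * b * a⁻¹) = a * b * a⁻¹ * z := ((ha.mul_right hb).mul_right ha.inv_right).eq
    _ = _ := by group

theorem InK.step {a b : Pt} (ha : InK a) (hb : InK b) {g : Cfsg.Spor.Fi24} (hg : md.phi g md.o = a) :
    InK (md.phi (tr g) b) := by
  obtain ⟨g1, h1, hc1, hm1⟩ := ha
  obtain ⟨g2, h2, hc2, hm2⟩ := hb
  have hgg : tr g = tr g1 := tr_congr (hg.trans h1.symm)
  rw [hgg]
  refine ⟨tr g1 * g2, by rw [map_mul, Equiv.Perm.mul_apply, h2], ?_, ?_⟩
  · have e : tr (tr g1 * g2) = tr g1 * tr g2 * (tr g1)⁻¹ := by simp only [tr]; group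
    rw [e]
    exact (hc1.mul_right hc2).mul_right hc1.inv_right
  · have e : zEl * tr (tr g1 * g2) = (zEl * tr g1) * (zEl * tr g2) * (zEl * tr g1)⁻¹ := by
      have e1 : tr (tr g1 * g2) = tr g1 * tr g2 * (tr g1)⁻¹ := by simp only [tr]; group
      rw [e1]
      exact conj_aux zEl_sq hc1 hc2
    rw [e]
    exact genK.mul_mem (genK.mul_mem hm1 hm2) (genK.inv_mem hm1)

/-- The closure certificate preserves membership. -/
theorem InK.close {tgts : List ℕ} : ∀ {l : List (List ℕ × ℕ × ℕ)} {pts : List ℕ},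
    gp.closeOK tgts l pts = true → (∀ i : Pt, (i : ℕ) ∈ pts → InK i) → ∀ i : Pt, (i : ℕ) ∈ tgts → InK i
  | [], pts, h, hf, i, hi => hf i (List.contains_iff_mem.1 (List.all_eq_true.1 h _ hi))
  | s :: l, pts, h, hf, i, hi => by
    change (md.okW s.1 && Nat.blt s.2.1 md.R.A.eps && Nat.blt s.2.2 md.R.N &&
      pts.contains (md.pAt (s.1 ++ gp.gw s.2.1) md.o) && pts.contains s.2.2 &&
      force (md.pAt (s.1 ++ s.2.1 :: s.1.reverse) s.2.2) fun c => gp.closeOK tgts l (c :: pts)) = true at h
    simp only [Bool.and_eq_true, Nat.blt_eq, List.contains_iff_mem, force_eq] at h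
    obtain ⟨⟨⟨⟨⟨hv, hx⟩, hb⟩, hq⟩, hbm⟩, hrest⟩ := h
    refine InK.close (l := l) hrest ?_ i hi
    intro j hj
    rcases List.mem_cons.1 hj with hj | hj
    · have hw : md.okW (s.1 ++ gp.gw s.2.1) = true := by rw [md.okW_append, hv, (gp.ok _ hx).1]; rfl
      have hok : md.okW (s.1 ++ s.2.1 :: s.1.reverse) = true := by
        rw [md.okW_append, hv, Bool.true_and]
        show (Nat.blt s.2.1 md.R.A.eps && md.okW s.1.reverse) = true
        rw [md.okW_reverse, hv, Bool.and_true, Nat.blt_eq]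
        exact hx
      have hval : md.val (s.1 ++ s.2.1 :: s.1.reverse) = tr (md.val (s.1 ++ gp.gw s.2.1)) := by
        rw [tr, md.val_append, md.val_append]
        show md.val s.1 * (evW md.ev (s.2.1 :: s.1.reverse)) = _
        rw [evW_cons, show evW md.ev s.1.reverse = md.val s.1.reverse from rfl, md.val_reverse hv,
          (gp.ok _ hx).2]
        show _ = md.val s.1 * md.val (gp.gw s.2.1) * md.ev md.z * (md.val s.1 * md.val (gp.gw s.2.1))⁻¹
        group
      have hj2 : j = md.phi (md.val (s.1 ++ s.2.1 :: s.1.reverse)) ⟨s.2.2, hb⟩ := by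
        apply Fin.ext
        rw [md.phi_at hok]
        exact hj
      rw [hj2, hval]
      exact InK.step (hf _ (by rw [md.phi_at hw]; exact hq)) (hf ⟨s.2.2, hb⟩ hbm) rfl
    · exact hf j hj

/-- The generators and their inverses, by index. -/
noncomputable def sixWords : List (List ℕ) := [xW, bW, cW, xW.reverse, bW.reverse, cW.reverse]

/-- A short word whose power is a product of two transpositions. -/
noncomputable def uWord : List ℕ := wpow (cW.reverse ++ xW.reverse ++ cW ++ xW) 5

/-- The conjugating word. -/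
noncomputable def kWord : List ℕ := kIdx.flatMap fun i => sixWords.getD i []

/-- The relation identifying a product of the central letter with a transposition. -/
noncomputable def seedRel : List ℕ :=
  kWord ++ uWord ++ kWord.reverse ++ (vgQ ++ 0 :: vgQ.reverse) ++ [0]

theorem seed_rel_ok : trivOK seedRel 1 = true := by decide +kernel

theorem seed_ok : (md.okW uWord && md.okW kWord && md.okW vgQ && Nat.beq (fAt vgQ 0) gQ0 &&
    md.okW (vgQ ++ 0 :: vgQ.reverse) && Nat.beq (fAt [0] gQ0) gQ0 && kIdx.all (fun i => Nat.blt i 6)) = true := by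
  decide +kernel

theorem val_mem_six {i : ℕ} (hi : i < 6) : md.val (sixWords.getD i []) ∈ genK := by
  have h := three_ok
  simp only [Bool.and_eq_true] at h
  have hx : uX ∈ genK := Subgroup.subset_closure (Or.inl rfl)
  have hb : uB ∈ genK := Subgroup.subset_closure (Or.inr (Or.inl rfl))
  have hc : uC ∈ genK := Subgroup.subset_closure (Or.inr (Or.inr rfl))
  rcases (by omega : i = 0 ∨ i = 1 ∨ i = 2 ∨ i = 3 ∨ i = 4 ∨ i = 5) with rfl | rfl | rfl | rfl | rfl | rfl
  · exact hx
  · exact hb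
  · exact hc
  · exact (md.val_reverse h.1.1.1.1.1).symm ▸ genK.inv_mem hx
  · exact (md.val_reverse h.1.1.1.1.2).symm ▸ genK.inv_mem hb
  · exact (md.val_reverse h.1.1.1.2).symm ▸ genK.inv_mem hc

theorem flat_mem : ∀ {l : List ℕ}, (∀ i ∈ l, i < 6) → md.val (l.flatMap fun i => sixWords.getD i []) ∈ genK
  | [], _ => by
    show evW md.ev [] ∈ genK
    rw [evW_nil]; exact genK.one_mem
  | i :: l, h => by
    rw [List.flatMap_cons, md.val_append]
    exact genK.mul_mem (val_mem_six (h i List.mem_cons_self)) (flat_mem fun j hj => h j (List.mem_cons_of_mem _ hj))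

theorem seed_inK : ∃ i : Pt, (i : ℕ) = gQ0 ∧ InK i := by
  have h := seed_ok
  simp only [Bool.and_eq_true, List.all_eq_true, Nat.blt_eq] at h
  obtain ⟨⟨⟨⟨⟨⟨hu, hk⟩, hv⟩, hvq⟩, hvv⟩, hfix⟩, hidx⟩ := h
  have h3 := three_ok
  simp only [Bool.and_eq_true] at h3
  have huK : md.val uWord ∈ genK := by
    show evW md.ev (wpow _ 5) ∈ genK
    rw [evW_wpow]
    refine genK.pow_mem ?_ 5
    show md.val (cW.reverse ++ xW.reverse ++ cW ++ xW) ∈ genK
    rw [md.val_append, md.val_append, md.val_append]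
    exact genK.mul_mem (genK.mul_mem (genK.mul_mem (val_mem_six (i := 5) (by norm_num))
      (val_mem_six (i := 3) (by norm_num))) (val_mem_six (i := 2) (by norm_num))) (val_mem_six (i := 0) (by norm_num))
  have hkK : md.val kWord ∈ genK := flat_mem hidx
  have hvt : md.val (vgQ ++ 0 :: vgQ.reverse) = tr (md.val vgQ) := by
    rw [md.val_append]
    show md.val vgQ * evW md.ev (0 :: vgQ.reverse) = _
    rw [evW_cons, show evW md.ev vgQ.reverse = md.val vgQ.reverse from rfl, md.val_reverse hv, tr]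
    group
  have hrel := trivOK_spec seed_rel_ok
  rw [pow_one, seedRel, md.val_append, md.val_append, md.val_append, md.val_append, md.val_reverse hk, hvt,
    show md.val [0] = zEl by show evW md.ev [0] = _; rw [evW_cons, evW_nil, mul_one]] at hrel
  have hzi : zEl⁻¹ = zEl := inv_eq_of_mul_eq_one_left zEl_sq
  have e1 : zEl * tr (md.val vgQ) = md.val kWord * md.val uWord * (md.val kWord)⁻¹ * (tr (md.val vgQ) * tr (md.val vgQ)) := by
    have h4 : md.val kWord * md.val uWord * (md.val kWord)⁻¹ * tr (md.val vgQ) = zEl := by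
      rw [← hzi]
      exact eq_inv_of_mul_eq_one_left hrel
    conv_lhs => rw [← h4]
    exact mul_assoc _ _ _
  rw [tr_sq, mul_one] at e1
  refine ⟨pt vgQ, pt_eq (by rw [Bool.and_eq_true]; exact ⟨hv, hvq⟩), md.val vgQ, rfl, ?_, ?_⟩
  · refine (M_comm_conj ?_)
    apply Fin.ext
    have h1 := md.phi_at (okW_letters 0 (by decide)) (pt vgQ)
    simp only [Model.val, evW_cons, evW_nil, mul_one] at h1
    rw [h1, pt_val hv, Nat.eq_of_beq_eq_true hvq, md_pAt]
    exact Nat.eq_of_beq_eq_true hfix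
  · rw [e1]
    exact genK.mul_mem (genK.mul_mem hkK huK) (genK.inv_mem hkK)
where
  M_comm_conj {g : Cfsg.Spor.Fi24} (h : md.phi zEl (md.phi g md.o) = md.phi g md.o) : Commute zEl (tr g) :=
    md.comm_conj h

theorem seeds_ok : (Nat.beq (gSeeds.getD 0 0) gQ0 && chainOK xW (gSeeds.take 23) &&
    (gSeeds.all fun q => (gSeeds.take 23).contains q || (gSeeds.take 23).any fun p => Nat.beq (fAt bW p) q)) = true := by
  decide +kernel

theorem gen_close : gp.closeOK genTargets gClose gSeeds = true := by decide +kernel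

theorem letters_inK (x : ℕ) (h2 : 2 ≤ x) (h12 : x < 12) : InK (pt (genPtWord x)) := by
  have h := seeds_ok
  simp only [Bool.and_eq_true, List.all_eq_true, Bool.or_eq_true, List.any_eq_true, List.contains_iff_mem] at h
  obtain ⟨i0, hi0, hK0⟩ := seed_inK
  have horb : ∀ j : Pt, (j : ℕ) ∈ gSeeds.take 23 → InK j := by
    intro j hj
    obtain ⟨n, hn, he⟩ := List.getElem_of_mem hj
    have hhead : (i0 : ℕ) = (gSeeds.take 23).getD 0 0 := by
      rw [hi0, ← Nat.eq_of_beq_eq_true h.1.1]
      cases gSeeds <;> rfl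
    have e := chainOK_spec xW_ok h.1.2 hhead hn
    rw [List.getD_eq_getElem _ _ hn, he] at e
    rw [show j = md.phi (uX ^ n) i0 from Fin.ext e]
    refine hK0.conj (genK.pow_mem (Subgroup.subset_closure (Or.inl rfl)) n) ?_
    rw [map_pow]; exact Equiv.Perm.pow_apply_eq_self_of_apply_eq_self uX_fix n
  refine InK.close gen_close (fun j hj => ?_) _ ?_
  · rcases h.2 _ hj with hm | ⟨p, hp, hq⟩
    · exact horb j hm
    · have hp' : p < md.R.N := by
        obtain ⟨n, hn, he⟩ := List.getElem_of_mem hp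
        have e := chainOK_spec xW_ok h.1.2 (q := i0) (by
          rw [hi0, ← Nat.eq_of_beq_eq_true h.1.1]; cases gSeeds <;> rfl) hn
        rw [List.getD_eq_getElem _ _ hn, he] at e
        rw [e]
        exact Fin.isLt _
      have := (horb ⟨p, hp'⟩ hp).conj (k := uB) (Subgroup.subset_closure (Or.inr (Or.inl rfl))) uB_fix
      rwa [show md.phi uB ⟨p, hp'⟩ = j from Fin.ext (by rw [md.phi_at bW_ok]; exact Nat.eq_of_beq_eq_true hq)] at this
  · rw [pt_val (v := genPtWord x) (gp.ok x (by rw [md_eps]; exact h12)).1]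
    exact List.mem_map.2 ⟨x - 2, List.mem_range.2 (by omega), by rw [Nat.sub_add_cancel h2]⟩

theorem z_letter_mem {x : ℕ} (h2 : 2 ≤ x) (h12 : x < 12) : zEl * md.ev x ∈ genK := by
  obtain ⟨g, hg, -, hm⟩ := letters_inK x h2 h12
  rw [tr_congr hg, tr, show zEl = md.ev md.z from rfl] at hm
  rw [(gp.ok x (by rw [md_eps]; exact h12)).2]
  exact hm

/-- The stabiliser lies in the subgroup up to the central letter. -/
theorem stab_mem {g : Cfsg.Spor.Fi24} (hg : g ∈ Subgroup.closure (md.ev '' {x | x ∈ md.hl})) :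
    g ∈ genK ∨ g * zEl ∈ genK := by
  induction hg using Subgroup.closure_induction with
  | mem y hy =>
    obtain ⟨x, hx, rfl⟩ := hy
    right
    by_cases h0 : x = 0
    · subst h0; rw [zEl_sq]; exact genK.one_mem
    · rw [← show zEl * md.ev x = md.ev x * zEl from md.z_comm x hx]
      change x ∈ stabLetters at hx
      simp only [stabLetters, List.mem_cons, List.not_mem_nil, or_false] at hx
      exact z_letter_mem (by omega) (by omega)
  | one => exact Or.inl genK.one_mem
  | mul a b ha hb iha ihb =>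
    have hbz : b * zEl = zEl * b := md.z_central hb
    rcases iha with h1 | h1 <;> rcases ihb with h2 | h2
    · exact Or.inl (genK.mul_mem h1 h2)
    · right; rw [mul_assoc]; exact genK.mul_mem h1 h2
    · right
      rw [mul_assoc, hbz, ← mul_assoc]
      exact genK.mul_mem h1 h2
    · left
      have e : a * b = (a * zEl) * (b * zEl) := by
        calc a * b = a * (zEl * zEl) * b := by rw [zEl_sq, mul_one]
          _ = a * zEl * (zEl * b) := by group
          _ = _ := by rw [hbz]
      rw [e]; exact genK.mul_mem h1 h2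
  | inv a ha ih =>
    rcases ih with h1 | h1
    · exact Or.inl (genK.inv_mem h1)
    · right
      have e : a⁻¹ * zEl = (a * zEl)⁻¹ := by
        rw [mul_inv_rev, inv_eq_of_mul_eq_one_left zEl_sq]
        exact Commute.inv_left (md.z_central ha)
      rw [e]; exact genK.inv_mem h1

theorem stab_even_mem {g : Cfsg.Spor.Fi24} (ho : md.phi g md.o = md.o) (hs : sgn g = 1) : g ∈ genK := by
  rcases stab_mem (md.stab g ho) with h | h
  · exact h
  · have := sgn_genK h
    rw [map_mul, hs, one_mul, sgn_zEl] at this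
    exact absurd this (by decide)

theorem k_step_ok : (md.okW hD && md.okW hK && Nat.beq (hD.length % 2) 0 && Nat.beq (hK.length % 2) 0 &&
    Nat.beq (fAt hD 0) 0 && Nat.beq (fAt hK 0) 0 && Nat.blt 1 gX && Nat.blt gX 12 &&
    Nat.beq (fAt hD (fAt (genPtWord 2) 0)) (fAt cW 0) &&
    Nat.beq (fAt hK (fAt cW (fAt (genPtWord gX) 0))) (fAt (genPtWord 1) 0)) = true := by decide +kernel

theorem z_k_mem : zEl * md.ev 1 ∈ genK := by
  have h := k_step_ok
  simp only [Bool.and_eq_true, Nat.blt_eq] at h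
  obtain ⟨⟨⟨⟨⟨⟨⟨⟨⟨hdok, hkok⟩, hde⟩, hke⟩, hdo⟩, hko⟩, hx1⟩, hx12⟩, hd2⟩, hk1⟩ := h
  have h3 := three_ok
  simp only [Bool.and_eq_true] at h3
  have okg : ∀ x, x < 12 → md.okW (genPtWord x) = true := fun x hx => (gp.ok x (by rw [md_eps]; exact hx)).1
  have hDo : md.phi (md.val hD) md.o = md.o := Fin.ext (by rw [md.phi_at hdok]; exact Nat.eq_of_beq_eq_true hdo)
  have hKo : md.phi (md.val hK) md.o = md.o := Fin.ext (by rw [md.phi_at hkok]; exact Nat.eq_of_beq_eq_true hko)
  have hDK := stab_even_mem hDo (sgn_even (by rw [Bool.and_eq_true]; exact ⟨hdok, hde⟩))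
  have hKK := stab_even_mem hKo (sgn_even (by rw [Bool.and_eq_true]; exact ⟨hkok, hke⟩))
  obtain ⟨gd, hgd, -, hmd⟩ := (letters_inK 2 le_rfl (by norm_num)).conj hDK hDo
  have hcd : tr gd = tr uC := tr_congr (hgd.trans (Fin.ext (by
    rw [md.phi_at hdok, pt_val (okg 2 (by norm_num)), md.phi_at h3.1.1.1.2, md_pAt]
    exact Nat.eq_of_beq_eq_true hd2)))
  rw [hcd] at hmd
  obtain ⟨ga, hga, -, hma⟩ := letters_inK gX hx1 hx12
  have hC : uC ∈ genK := Subgroup.subset_closure (Or.inr (Or.inr rfl))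
  have h1 : zEl * tr (uC * ga) ∈ genK := by
    have e : zEl * tr (uC * ga) = (zEl * tr uC) * (uC * (zEl * tr ga) * uC⁻¹) := by
      have : uC * (zEl * tr ga) * uC⁻¹ = tr uC * tr (uC * ga) := by simp only [tr]; group
      rw [this]
      calc zEl * tr (uC * ga) = zEl * (tr uC * tr uC) * tr (uC * ga) := by rw [tr_sq, mul_one]
        _ = _ := by group
    rw [e]
    exact genK.mul_mem hmd (genK.mul_mem (genK.mul_mem hC hma) (genK.inv_mem hC))
  have e2 : zEl * tr (md.val hK * (uC * ga)) = md.val hK * (zEl * tr (uC * ga)) * (md.val hK)⁻¹ := by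
    have hz : md.val hK * zEl = zEl * md.val hK := mem_stab hKo
    calc zEl * tr (md.val hK * (uC * ga)) = zEl * md.val hK * tr (uC * ga) * (md.val hK)⁻¹ := by
          simp only [tr]; group
      _ = _ := by rw [← hz]; group
  have hpt : md.phi (md.val hK * (uC * ga)) md.o = md.phi (md.val (gp.gw 1)) md.o := by
    apply Fin.ext
    rw [map_mul, map_mul, Equiv.Perm.mul_apply, Equiv.Perm.mul_apply, hga, md.phi_at hkok, md.phi_at h3.1.1.1.2,
      pt_val (okg gX hx12), md.phi_at (gp.ok 1 (by rw [md_eps]; norm_num)).1, md_pAt, md_pAt, md_pAt]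
    exact Nat.eq_of_beq_eq_true hk1
  rw [(gp.ok 1 (by rw [md_eps]; norm_num)).2]
  show zEl * tr (md.val (gp.gw 1)) ∈ genK
  rw [← tr_congr hpt, e2]
  exact genK.mul_mem (genK.mul_mem hKK h1) (genK.inv_mem hKK)

/-- Every even element lies in the subgroup. -/
theorem genK_eq {g : Cfsg.Spor.Fi24} (hs : sgn g = 1) : g ∈ genK := by
  set K' := Subgroup.closure {y | ∃ x, x < 12 ∧ y = zEl * md.ev x} with hK'
  have hle : K' ≤ genK := by
    rw [hK', Subgroup.closure_le]
    rintro _ ⟨x, hx, rfl⟩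
    rcases (by omega : x = 0 ∨ x = 1 ∨ 2 ≤ x) with rfl | rfl | h2
    · rw [zEl_sq]; exact genK.one_mem
    · exact z_k_mem
    · exact z_letter_mem h2 hx
  have hzi : zEl⁻¹ = zEl := inv_eq_of_mul_eq_one_left zEl_sq
  have hnorm : ∀ y ∈ K', zEl * y * zEl ∈ K' := by
    intro y hy
    induction hy using Subgroup.closure_induction with
    | mem a ha =>
      obtain ⟨x, hx, rfl⟩ := ha
      have e : zEl * (zEl * md.ev x) * zEl = (zEl * md.ev x)⁻¹ := by
        rw [← mul_assoc zEl zEl, zEl_sq, one_mul, mul_inv_rev,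
          inv_eq_of_mul_eq_one_left (md.sq x (by rw [md_eps]; exact hx)), hzi]
      rw [e]
      exact K'.inv_mem (Subgroup.subset_closure ⟨x, hx, rfl⟩)
    | one => rw [mul_one, zEl_sq]; exact K'.one_mem
    | mul a b _ _ iha ihb =>
      have e : zEl * (a * b) * zEl = (zEl * a * zEl) * (zEl * b * zEl) := by
        calc zEl * (a * b) * zEl = zEl * a * (zEl * zEl) * b * zEl := by rw [zEl_sq, mul_one]; group
          _ = _ := by group
      rw [e]; exact K'.mul_mem iha ihb
    | inv a _ ih =>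
      have e : zEl * a⁻¹ * zEl = (zEl * a * zEl)⁻¹ := by
        rw [mul_inv_rev, mul_inv_rev, hzi]; group
      rw [e]; exact K'.inv_mem ih
  have key : ∀ y, y ∈ Subgroup.closure (md.ev '' Set.Iio md.R.A.eps) → y ∈ K' ∨ y * zEl ∈ K' := by
    intro y hy
    induction hy using Subgroup.closure_induction with
    | mem a ha =>
      obtain ⟨x, hx, rfl⟩ := ha
      right
      rw [Set.mem_Iio, md_eps] at hx
      have e : md.ev x * zEl = (zEl * md.ev x)⁻¹ := by
        rw [mul_inv_rev, inv_eq_of_mul_eq_one_left (md.sq x (by rw [md_eps]; exact hx)), hzi]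
      rw [e]
      exact K'.inv_mem (Subgroup.subset_closure ⟨x, hx, rfl⟩)
    | one => exact Or.inl K'.one_mem
    | mul a b _ _ iha ihb =>
      rcases iha with h1 | h1 <;> rcases ihb with h2 | h2
      · exact Or.inl (K'.mul_mem h1 h2)
      · right; rw [mul_assoc]; exact K'.mul_mem h1 h2
      · right
        have e : a * b * zEl = (a * zEl) * (zEl * b * zEl) := by
          calc a * b * zEl = a * (zEl * zEl) * b * zEl := by rw [zEl_sq, mul_one]
            _ = _ := by group
        rw [e]; exact K'.mul_mem h1 (hnorm _ h2)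
      · left
        have e : a * b = (a * zEl) * (zEl * (b * zEl) * zEl) := by
          calc a * b = a * (zEl * zEl) * b * (zEl * zEl) := by rw [zEl_sq, mul_one, mul_one]
            _ = _ := by group
        rw [e]; exact K'.mul_mem h1 (hnorm _ h2)
    | inv a _ ih =>
      rcases ih with h1 | h1
      · exact Or.inl (K'.inv_mem h1)
      · right
        have e : a⁻¹ * zEl = zEl * (a * zEl)⁻¹ * zEl := by
          rw [mul_inv_rev, hzi, ← mul_assoc zEl zEl, zEl_sq, one_mul]
        rw [e]; exact hnorm _ (K'.inv_mem h1)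
  rcases key g (by rw [md.top]; trivial) with h | h
  · exact hle h
  · have := sgn_genK (hle h)
    rw [map_mul, hs, one_mul, sgn_zEl] at this
    exact absurd this (by decide)

end CfsgLib.Fi24Out
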