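import Cfsg.Agent.Lib.Fi24Out.Eval

/-!
Transposition geometry of a table: adjacency of points, and certificates showing that an element fixing
some points commutes with given letters.
-/
set_option autoImplicit false
set_option maxRecDepth 20000

namespace CfsgLib.Fi24Out

open CfsgLib.Presented CfsgLib.Presented.Vec

/-- A faithful transitive table of involutory letters. -/
structure Model (G : Type) [Group G] where
  R : Rep
  valid : R.valid = true
  ev : ℕ → G
  phi : G →* Equiv.Perm (Fin R.N)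
  phi_ev : ∀ x, x < R.A.eps → phi (ev x) = R.perm valid x
  inj : Function.Injective phi
  sq : ∀ x, x < R.A.eps → ev x * ev x = 1
  top : Subgroup.closure (ev '' Set.Iio R.A.eps) = ⊤
  o : Fin R.N
  trans : ∀ i, ∃ g, phi g o = i
  N0 : ℕ
  hl : List ℕ
  hl_lt : ∀ x ∈ hl, x < R.A.eps
  stab : ∀ g, phi g o = o → g ∈ Subgroup.closure (ev '' {x | x ∈ hl})
  N0_inv : ∀ x ∈ hl, ∀ i : Fin R.N, N0.testBit (R.perm valid x i) = N0.testBit i
  z : ℕ
  z_lt : z < R.A.eps
  z_comm : ∀ x ∈ hl, ev z * ev x = ev x * ev z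
  pAt : List ℕ → ℕ → ℕ
  pAt_eq : ∀ w : List ℕ, (∀ x ∈ w, x < R.A.eps) → ∀ i : Fin R.N, pAt w i = (evW (R.perm valid) w i : ℕ)

variable {G : Type} [Group G] (M : Model G)

namespace Model

/-- The value of a word. -/
noncomputable abbrev val (w : List ℕ) : G := evW M.ev w

/-- All letters of a word are letters of the table. -/
noncomputable def okW (w : List ℕ) : Bool := w.all fun x => Nat.blt x M.R.A.eps

theorem okW_spec {w : List ℕ} : M.okW w = true ↔ ∀ x ∈ w, x < M.R.A.eps := by
  simp [okW, List.all_eq_true]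

theorem val_append (u w : List ℕ) : M.val (u ++ w) = M.val u * M.val w := evW_append ..

theorem phi_val : ∀ {w : List ℕ}, M.okW w = true → M.phi (M.val w) = evW (M.R.perm M.valid) w
  | [], _ => map_one _
  | x :: w, h => by
    have h2 := M.okW_spec.1 h
    simp only [val, evW_cons, map_mul, M.phi_ev x (h2 x List.mem_cons_self),
      phi_val (w := w) (M.okW_spec.2 fun y hy => h2 y (List.mem_cons_of_mem _ hy))]

/-- The image of a point under the value of a word. -/
theorem phi_at {w : List ℕ} (h : M.okW w = true) (i : Fin M.R.N) :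
    (M.phi (M.val w) i : ℕ) = M.pAt w i := by
  rw [M.phi_val h, M.pAt_eq w (M.okW_spec.1 h)]

/-- Where a power of a word sends a point. -/
noncomputable def powAt (w : List ℕ) (n i : ℕ) : ℕ :=
  Nat.rec (motive := fun _ => ℕ) i (fun _ ih => force ih fun j => M.pAt w j) n

theorem powAt_eq {w : List ℕ} (h : M.okW w = true) : ∀ (n : ℕ) (i : Fin M.R.N),
    M.powAt w n i = (M.phi (M.val w ^ n) i : ℕ)
  | 0, i => by simp [powAt]
  | n + 1, i => by
    show (force (M.powAt w n i) fun j => M.pAt w j) = _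
    rw [force_eq, powAt_eq h n i, ← M.phi_at h, ← Equiv.Perm.mul_apply, ← map_mul, pow_succ']

theorem okW_append {u w : List ℕ} : M.okW (u ++ w) = (M.okW u && M.okW w) := List.all_append

theorem okW_reverse {w : List ℕ} : M.okW w.reverse = M.okW w := List.all_reverse

theorem val_reverse : ∀ {w : List ℕ}, M.okW w = true → M.val w.reverse = (M.val w)⁻¹
  | [], _ => by simp [val]
  | x :: w, h => by
    have h2 := M.okW_spec.1 h
    rw [List.reverse_cons, M.val_append, val_reverse (w := w) (M.okW_spec.2 fun y hy => h2 y (List.mem_cons_of_mem _ hy))]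
    simp only [val, evW_cons, evW_nil, mul_one, mul_inv_rev]
    rw [inv_eq_of_mul_eq_one_left (M.sq x (h2 x List.mem_cons_self))]

theorem N0_closure {g : G} (hg : g ∈ Subgroup.closure (M.ev '' {x | x ∈ M.hl})) :
    ∀ i, M.N0.testBit (M.phi g i : ℕ) = M.N0.testBit (i : ℕ) := by
  induction hg using Subgroup.closure_induction with
  | mem y hy =>
    obtain ⟨x, hx, rfl⟩ := hy
    intro i
    rw [M.phi_ev x (M.hl_lt x hx)]
    exact M.N0_inv x hx i
  | one => intro i; simp
  | mul a b _ _ iha ihb => intro i; rw [map_mul, Equiv.Perm.mul_apply, iha, ihb]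
  | inv a _ ih =>
    intro i
    have := ih (M.phi a⁻¹ i)
    rw [← Equiv.Perm.mul_apply, ← map_mul, mul_inv_cancel, map_one] at this
    exact this.symm

theorem N0_stab {g : G} (hg : M.phi g M.o = M.o) (i : Fin M.R.N) :
    M.N0.testBit (M.phi g i : ℕ) = M.N0.testBit (i : ℕ) :=
  M.N0_closure (M.stab g hg) i

/-- `j` lies in the translate of `N0` belonging to `i`. -/
def Near (i j : Fin M.R.N) : Prop := ∃ g, M.phi g M.o = i ∧ M.N0.testBit (M.phi g⁻¹ j : ℕ) = true

theorem near_iff {g : G} {i : Fin M.R.N} (hg : M.phi g M.o = i) (j : Fin M.R.N) :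
    M.Near i j ↔ M.N0.testBit (M.phi g⁻¹ j : ℕ) = true := by
  refine ⟨?_, fun h => ⟨g, hg, h⟩⟩
  rintro ⟨k, hk, h⟩
  have hgk : M.phi (g⁻¹ * k) M.o = M.o := by
    rw [map_mul, Equiv.Perm.mul_apply, hk, ← hg, ← Equiv.Perm.mul_apply, ← map_mul, inv_mul_cancel,
      map_one, Equiv.Perm.one_apply]
  have := M.N0_stab hgk (M.phi k⁻¹ j)
  rw [h, ← Equiv.Perm.mul_apply, ← map_mul, mul_assoc, mul_inv_cancel, mul_one] at this
  exact this

theorem near_apply (g : G) (i j : Fin M.R.N) : M.Near (M.phi g i) (M.phi g j) ↔ M.Near i j := by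
  obtain ⟨k, hk⟩ := M.trans i
  have h : M.phi (g * k) M.o = M.phi g i := by rw [map_mul, Equiv.Perm.mul_apply, hk]
  rw [M.near_iff h, M.near_iff hk, mul_inv_rev, ← Equiv.Perm.mul_apply, ← map_mul,
    inv_mul_cancel_right]

theorem N0_iff_near (j : Fin M.R.N) : M.N0.testBit (j : ℕ) = true ↔ M.Near M.o j := by
  have := M.near_iff (g := 1) (i := M.o) (by simp) j
  simpa using this.symm

/-- Adjacency to the point of a word, evaluated. -/
noncomputable def relB (v : List ℕ) (j : ℕ) : Bool := M.N0.testBit (M.pAt v.reverse j)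

theorem relB_iff {v : List ℕ} (hv : M.okW v = true) {i : Fin M.R.N}
    (hi : M.phi (M.val v) M.o = i) (j : Fin M.R.N) : M.relB v j = true ↔ M.Near i j := by
  rw [M.near_iff hi, relB, ← M.val_reverse hv, M.phi_at (by rw [M.okW_reverse, hv])]

/-- The points adjacent to the point of a word. -/
noncomputable def nearSet (v : List ℕ) : ℕ := imgSet M.R v.reverse M.N0

theorem nearSet_iff {v : List ℕ} (hv : M.okW v = true) {i : Fin M.R.N}
    (hi : M.phi (M.val v) M.o = i) (j : Fin M.R.N) :
    (M.nearSet v).testBit j = true ↔ M.Near i j := by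
  rw [M.near_iff hi, nearSet, testBit_imgSet M.valid, ← M.val_reverse hv,
    M.phi_val (by rw [M.okW_reverse, hv])]

theorem z_central {g : G} (hg : g ∈ Subgroup.closure (M.ev '' {x | x ∈ M.hl})) :
    g * M.ev M.z = M.ev M.z * g := by
  induction hg using Subgroup.closure_induction with
  | mem y hy => obtain ⟨x, hx, rfl⟩ := hy; exact (M.z_comm x hx).symm
  | one => simp
  | mul a b _ _ iha ihb => rw [mul_assoc, ihb, ← mul_assoc, iha, mul_assoc]
  | inv a _ ih => exact Commute.inv_left ih

/-- An element fixing the point of `g` commutes with the conjugate of the central letter by `g`. -/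
theorem comm_conj {y g : G} (h : M.phi y (M.phi g M.o) = M.phi g M.o) :
    Commute y (g * M.ev M.z * g⁻¹) := by
  have h1 : M.phi (g⁻¹ * y * g) M.o = M.o := by
    rw [map_mul, map_mul, Equiv.Perm.mul_apply, Equiv.Perm.mul_apply, h, ← Equiv.Perm.mul_apply,
      ← map_mul, inv_mul_cancel, map_one, Equiv.Perm.one_apply]
  have h2 := M.z_central (M.stab _ h1)
  show y * (g * M.ev M.z * g⁻¹) = g * M.ev M.z * g⁻¹ * y
  calc y * (g * M.ev M.z * g⁻¹) = g * ((g⁻¹ * y * g) * M.ev M.z) * g⁻¹ := by group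
    _ = g * (M.ev M.z * (g⁻¹ * y * g)) * g⁻¹ := by rw [h2]
    _ = g * M.ev M.z * g⁻¹ * y := by group

/-- Words carrying the base point to the point of a letter, together with the identities. -/
structure GenPts where
  gw : ℕ → List ℕ
  ok : ∀ x, x < M.R.A.eps → M.okW (gw x) = true ∧ M.ev x = M.val (gw x) * M.ev M.z * (M.val (gw x))⁻¹

variable {M}

/-- An element fixing the point of the letter `x` commutes with it. -/
theorem GenPts.comm (P : M.GenPts) {y : G} {x : ℕ} (hx : x < M.R.A.eps)
    (h : M.phi y (M.phi (M.val (P.gw x)) M.o) = M.phi (M.val (P.gw x)) M.o) : Commute y (M.ev x) := by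
  rw [(P.ok x hx).2]
  exact M.comm_conj h

/-- The certificate of a closure: each step adds the image of a known point under the conjugate of a
letter whose point is known. -/
noncomputable def GenPts.closeOK (P : M.GenPts) (tgts : List ℕ) :
    List (List ℕ × ℕ × ℕ) → List ℕ → Bool :=
  fun l => List.rec (motive := fun _ => List ℕ → Bool) (fun pts => tgts.all fun t => pts.contains t)
    (fun s _ ih pts => M.okW s.1 && Nat.blt s.2.1 M.R.A.eps && Nat.blt s.2.2 M.R.N &&
      pts.contains (M.pAt (s.1 ++ P.gw s.2.1) M.o) && pts.contains s.2.2 &&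
      force (M.pAt (s.1 ++ s.2.1 :: s.1.reverse) s.2.2) fun c => ih (c :: pts)) l

theorem GenPts.closeOK_spec (P : M.GenPts) {tgts : List ℕ} {y : G} :
    ∀ {l : List (List ℕ × ℕ × ℕ)} {pts : List ℕ}, P.closeOK tgts l pts = true →
      (∀ i : Fin M.R.N, (i : ℕ) ∈ pts → M.phi y i = i) →
      ∀ i : Fin M.R.N, (i : ℕ) ∈ tgts → M.phi y i = i
  | [], pts, h, hf, i, hi => hf i (List.contains_iff_mem.1 (List.all_eq_true.1 h _ hi))
  | s :: l, pts, h, hf, i, hi => by
    change (M.okW s.1 && Nat.blt s.2.1 M.R.A.eps && Nat.blt s.2.2 M.R.N &&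
      pts.contains (M.pAt (s.1 ++ P.gw s.2.1) M.o) && pts.contains s.2.2 &&
      force (M.pAt (s.1 ++ s.2.1 :: s.1.reverse) s.2.2) fun c => P.closeOK tgts l (c :: pts)) = true at h
    simp only [Bool.and_eq_true, Nat.blt_eq, List.contains_iff_mem, force_eq] at h
    obtain ⟨⟨⟨⟨⟨hv, hx⟩, hb⟩, hq⟩, hbm⟩, hrest⟩ := h
    refine closeOK_spec P (l := l) hrest ?_ i hi
    intro j hj
    rcases List.mem_cons.1 hj with hj | hj
    · have hw : M.okW (s.1 ++ P.gw s.2.1) = true := by rw [M.okW_append, hv, (P.ok _ hx).1]; rfl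
      have hfix : M.phi y (M.phi (M.val (s.1 ++ P.gw s.2.1)) M.o) = M.phi (M.val (s.1 ++ P.gw s.2.1)) M.o :=
        hf _ (by rw [M.phi_at hw]; exact hq)
      have hc := M.comm_conj hfix
      have hval : M.val (s.1 ++ s.2.1 :: s.1.reverse) =
          M.val (s.1 ++ P.gw s.2.1) * M.ev M.z * (M.val (s.1 ++ P.gw s.2.1))⁻¹ := by
        rw [M.val_append, M.val_append]
        show M.val s.1 * (evW M.ev (s.2.1 :: s.1.reverse)) = _
        rw [evW_cons, show evW M.ev s.1.reverse = M.val s.1.reverse from rfl, M.val_reverse hv,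
          (P.ok _ hx).2]
        group
      have hok : M.okW (s.1 ++ s.2.1 :: s.1.reverse) = true := by
        rw [M.okW_append, hv, Bool.true_and]
        show (Nat.blt s.2.1 M.R.A.eps && M.okW s.1.reverse) = true
        rw [M.okW_reverse, hv, Bool.and_true, Nat.blt_eq]
        exact hx
      have hj2 : j = M.phi (M.val (s.1 ++ s.2.1 :: s.1.reverse)) ⟨s.2.2, hb⟩ := by
        apply Fin.ext
        rw [M.phi_at hok]
        exact hj
      rw [hj2, hval, ← Equiv.Perm.mul_apply, ← map_mul, hc.eq, map_mul, Equiv.Perm.mul_apply,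
        hf ⟨s.2.2, hb⟩ hbm]
    · exact hf j hj

end Model

end CfsgLib.Fi24Out
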