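import Cfsg.Agent.Lib.Fi24Out.Search
import Cfsg.Agent.Lib.Fi24Out.Fast
import Cfsg.Agent.Lib.Presented.Fi24Simple

/-!
The table of the presented group Fi24 as a model of the transposition geometry.
-/
set_option autoImplicit false
set_option maxRecDepth 20000
set_option Elab.async false

namespace CfsgLib.Fi24Out

open CfsgLib.Presented CfsgLib.Presented.Vec
open Fi24Base (ev phi phi_ev)
open Fi24Cert (rep rep_valid orbit1)

/-- The letters of the point stabiliser. -/
abbrev stabLetters : List ℕ := [0, 2, 3, 4, 5, 6, 7, 8, 9, 10, 11]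

theorem N0_fix_ok : (stabLetters.all fun x => Nat.blt x rep.A.eps &&
    agreeOn rep.N (imgSet rep [x] orbit1.bits) orbit1.bits) = true := by
  decide +kernel

theorem eps_twelve : rep.A.eps = 12 := rfl

theorem N0_step : ∀ x ∈ stabLetters, ∀ i : Fin rep.N,
    orbit1.bits.testBit (rep.perm rep_valid x i) = orbit1.bits.testBit i := by
  intro x hx i
  have h := List.all_eq_true.1 N0_fix_ok x hx
  rw [Bool.and_eq_true] at h
  have h2 := agreeOn_spec h.2 i.2
  rw [testBit_imgSet rep_valid, evW_cons, evW_nil, mul_one] at h2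
  exact h2

/-- The model. -/
noncomputable def md : Model Cfsg.Spor.Fi24 where
  R := rep
  valid := rep_valid
  ev := ev
  phi := phi
  phi_ev := phi_ev
  inj := Fi24Order.phi_injective
  sq := fun x hx => Fi24Order.ev_sq hx
  top := Fi24Base.gen_top
  o := Fi24Base.pt0
  trans := Fi24Cosets.transitive
  N0 := orbit1.bits
  hl := stabLetters
  hl_lt := fun x hx => by
    have h := List.all_eq_true.1 N0_fix_ok x hx
    rw [Bool.and_eq_true, Nat.blt_eq] at h
    exact h.1
  stab := fun g hg => by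
    have h := Fi24Cosets.mem_H_of_fix hg
    rw [Fi24Cosets.H_eq_genBy] at h
    exact h
  N0_inv := N0_step
  z := 0
  z_lt := by rw [eps_twelve]; decide
  z_comm := fun x hx => by
    refine (Fi24Order.l_comm _ ?_).eq
    rw [Fi24Cosets.H_eq_genBy]
    exact Subgroup.subset_closure ⟨x, hx, rfl⟩
  pAt := fAt
  pAt_eq := fAt_eq

/-- Words carrying the base point to the points of the letters. -/
def genPtWord : ℕ → List ℕ
  | 1 => [0, 1]
  | 2 => [1, 2, 0, 1]
  | 3 => [2, 3, 1, 2, 0, 1]
  | 4 => [3, 4, 2, 3, 1, 2, 0, 1]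
  | 5 => [4, 5, 3, 4, 2, 3, 1, 2, 0, 1]
  | 6 => [5, 6, 4, 5, 3, 4, 2, 3, 1, 2, 0, 1]
  | 7 => [6, 7, 5, 6, 4, 5, 3, 4, 2, 3, 1, 2, 0, 1]
  | 8 => [7, 8, 6, 7, 5, 6, 4, 5, 3, 4, 2, 3, 1, 2, 0, 1]
  | 9 => [8, 9, 7, 8, 6, 7, 5, 6, 4, 5, 3, 4, 2, 3, 1, 2, 0, 1]
  | 10 => [5, 10, 4, 5, 3, 4, 2, 3, 1, 2, 0, 1]
  | 11 => [10, 11, 5, 10, 4, 5, 3, 4, 2, 3, 1, 2, 0, 1]
  | _ => []

theorem braid {p n : ℕ} (hp : p < 12) (hn : n < 12)
    (h : Fi24Cert.relWords.contains [p, n, p, n, p, n] = true ∨
      Fi24Cert.relWords.contains [n, p, n, p, n, p] = true) :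
    ev n = ev p * ev n * ev p * (ev p * ev n)⁻¹ := by
  have sp := Fi24Order.ev_sq (show p < Fi24Cert.alphabet.eps from hp)
  have sn := Fi24Order.ev_sq (show n < Fi24Cert.alphabet.eps from hn)
  have h1 : ev p * ev n * (ev p * ev n) * (ev p * ev n) = 1 := by
    rcases h with h | h
    · have := Fi24Base.rels_hold _ (List.contains_iff_mem.1 h)
      simpa [evW_cons, evW_nil, mul_assoc] using this
    · have := Fi24Base.rels_hold _ (List.contains_iff_mem.1 h)
      simp only [evW_cons, evW_nil, mul_one] at this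
      calc ev p * ev n * (ev p * ev n) * (ev p * ev n)
          = (ev n)⁻¹ * (ev n * (ev p * (ev n * (ev p * (ev n * ev p))))) * ev n := by group
        _ = 1 := by rw [this]; group
  rw [mul_inv_rev, inv_eq_of_mul_eq_one_left sn, inv_eq_of_mul_eq_one_left sp]
  refine (inv_eq_of_mul_eq_one_left sn).symm.trans (inv_eq_of_mul_eq_one_left ?_)
  simpa [mul_assoc] using h1

/-- An element acting trivially by a checked word is trivial. -/
theorem eq_one_of_rels {ws : List (List ℕ)} (h : rep.relsOK ws = true) {w : List ℕ} (hw : w ∈ ws) :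
    md.val w = 1 := by
  have hok : md.okW w = true := by
    simp only [Rep.relsOK, List.all_eq_true, Bool.and_eq_true] at h
    exact List.all_eq_true.2 (h w hw).1
  apply md.inj
  rw [map_one, md.phi_val hok]
  exact Rep.evW_eq_one rep_valid h hw

theorem gen_conj : ∀ x, x < 12 → md.ev x = md.val (genPtWord x) * md.ev 0 * (md.val (genPtWord x))⁻¹ := by
  have step : ∀ p n, p < 12 → n < 12 →
      (Fi24Cert.relWords.contains [p, n, p, n, p, n] = true ∨
        Fi24Cert.relWords.contains [n, p, n, p, n, p] = true) →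
      genPtWord n = p :: n :: genPtWord p →
      md.ev p = md.val (genPtWord p) * md.ev 0 * (md.val (genPtWord p))⁻¹ →
      md.ev n = md.val (genPtWord n) * md.ev 0 * (md.val (genPtWord n))⁻¹ := by
    intro p n hp hn hr hw ih
    rw [hw]
    simp only [Model.val, evW_cons] at ih ⊢
    have hb : md.ev n = md.ev p * md.ev n * md.ev p * (md.ev p * md.ev n)⁻¹ := braid hp hn hr
    calc md.ev n = md.ev p * md.ev n * md.ev p * (md.ev p * md.ev n)⁻¹ := hb
      _ = md.ev p * md.ev n * (evW md.ev (genPtWord p) * md.ev 0 * (evW md.ev (genPtWord p))⁻¹) *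
            (md.ev p * md.ev n)⁻¹ := by rw [← ih]
      _ = _ := by group
  have h0 : md.ev 0 = md.val (genPtWord 0) * md.ev 0 * (md.val (genPtWord 0))⁻¹ := by
    simp [Model.val, genPtWord]
  have h1 := step 0 1 (by decide) (by decide) (by decide +kernel) rfl h0
  have h2 := step 1 2 (by decide) (by decide) (by decide +kernel) rfl h1
  have h3 := step 2 3 (by decide) (by decide) (by decide +kernel) rfl h2
  have h4 := step 3 4 (by decide) (by decide) (by decide +kernel) rfl h3
  have h5 := step 4 5 (by decide) (by decide) (by decide +kernel) rfl h4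
  have h6 := step 5 6 (by decide) (by decide) (by decide +kernel) rfl h5
  have h7 := step 6 7 (by decide) (by decide) (by decide +kernel) rfl h6
  have h8 := step 7 8 (by decide) (by decide) (by decide +kernel) rfl h7
  have h9 := step 8 9 (by decide) (by decide) (by decide +kernel) rfl h8
  have h10 := step 5 10 (by decide) (by decide) (by decide +kernel) rfl h5
  have h11 := step 10 11 (by decide) (by decide) (by decide +kernel) rfl h10
  intro x hx
  rcases (by omega : x = 0 ∨ x = 1 ∨ x = 2 ∨ x = 3 ∨ x = 4 ∨ x = 5 ∨ x = 6 ∨ x = 7 ∨ x = 8 ∨ x = 9 ∨ x = 10 ∨ x = 11)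
    with rfl | rfl | rfl | rfl | rfl | rfl | rfl | rfl | rfl | rfl | rfl | rfl <;> assumption

/-- The points of the letters. -/
noncomputable def gp : md.GenPts where
  gw := genPtWord
  ok := fun x hx => by
    have hx' : x < 12 := by rwa [← eps_twelve]
    refine ⟨?_, gen_conj x hx'⟩
    rcases (by omega : x = 0 ∨ x = 1 ∨ x = 2 ∨ x = 3 ∨ x = 4 ∨ x = 5 ∨ x = 6 ∨ x = 7 ∨ x = 8 ∨ x = 9 ∨ x = 10 ∨ x = 11)
      with rfl | rfl | rfl | rfl | rfl | rfl | rfl | rfl | rfl | rfl | rfl | rfl <;> decide +kernel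

end CfsgLib.Fi24Out
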