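import Cfsg.Agent.Lib.Fi24Out.Orbits
import Cfsg.Agent.Lib.Fi24Out.Data
import Cfsg.Agent.Lib.Fi24Out.DataX

/-!
The element of order 23 fixes one point.
-/
set_option autoImplicit false
set_option maxRecDepth 100000
set_option Elab.async false

namespace CfsgLib.Fi24Out

open CfsgLib.Presented CfsgLib.Presented.Vec

/-- The points seen moving in the given bits. -/
noncomputable def movBits (w : List ℕ) (bs : List ℕ) : ℕ :=
  bs.foldr (fun b acc => force acc fun T =>
    force ((slices Fi24Cert.rep.m).getD b 0) fun s => Nat.lor (Nat.xor (imgSet Fi24Cert.rep w s) s) T) 0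

theorem movA_ok : agreeOn Fi24Cert.rep.N (movBits xW [0, 1, 2, 3, 4, 5, 6, 7, 8, 9]) xMovA = true := by
  decide +kernel

theorem movB_ok : agreeOn Fi24Cert.rep.N (movBits xW [10, 11, 12, 13, 14, 15, 16, 17, 18]) xMovB = true := by
  decide +kernel

theorem mov_cover : subOn Fi24Cert.rep (ones Fi24Cert.rep.N) (Nat.lor (ptsSet [0]) (Nat.lor xMovA xMovB)) = true := by
  decide +kernel

theorem xW_okW : md.okW xW = true := by decide +kernel

attribute [local irreducible] xW xMovA xMovB

theorem movBits_spec {w : List ℕ} {i : Fin Fi24Cert.rep.N} :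
    ∀ {bs : List ℕ}, (movBits w bs).testBit i = true → evW (Fi24Cert.rep.perm Fi24Cert.rep_valid) w i ≠ i
  | [], h => by simp [movBits] at h
  | b :: bs, h => by
    change Nat.testBit (force (movBits w bs) fun T =>
      force ((slices Fi24Cert.rep.m).getD b 0) fun s => Nat.lor (Nat.xor (imgSet Fi24Cert.rep w s) s) T) _ = true at h
    rw [force_eq, force_eq] at h
    change Nat.testBit ((_ ^^^ _) ||| _) _ = true at h
    rw [Nat.testBit_or, Bool.or_eq_true] at h
    rcases h with h | h
    · intro he
      rw [Nat.testBit_xor, testBit_imgSet Fi24Cert.rep_valid, he, Bool.xor_self] at h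
      exact Bool.false_ne_true h
    · exact movBits_spec h

/-- The only fixed point. -/
theorem x_fixed {i : Fin Fi24Cert.rep.N} (h : md.phi (md.val xW) i = i) : (i : ℕ) = 0 := by
  have h1 : evW (Fi24Cert.rep.perm Fi24Cert.rep_valid) xW i = i :=
    Fin.ext ((congrArg (fun p => ((p i : Fin Fi24Cert.rep.N) : ℕ)) (md.phi_val xW_okW)).symm.trans (congrArg Fin.val h))
  have h2 := subOn_spec mov_cover i (by rw [testBit_ones]; exact decide_eq_true i.2)
  change Nat.testBit (_ ||| (_ ||| _)) _ = true at h2
  rw [Nat.testBit_or, Nat.testBit_or, Bool.or_eq_true, Bool.or_eq_true] at h2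
  rcases h2 with h2 | h2 | h2
  · exact List.mem_singleton.1 (ptsSet_spec h2)
  · rw [← agreeOn_spec movA_ok i.2] at h2
    exact absurd h1 (movBits_spec h2)
  · rw [← agreeOn_spec movB_ok i.2] at h2
    exact absurd h1 (movBits_spec h2)

end CfsgLib.Fi24Out
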