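import Cfsg.Agent.Lib.Fi24Out.Cands
import Cfsg.Agent.Lib.Fi24Out.XFixed
import Cfsg.Agent.Lib.Schur.OutRigid
import Cfsg.Prelude.Def_Spor_Fi24

/-!
The outer automorphism group of the commutator subgroup of the presented group Fi24 has order two.
-/
set_option autoImplicit false
set_option maxRecDepth 20000
set_option Elab.async false

namespace CfsgLib.Fi24Out

open CfsgLib.Presented CfsgLib.Presented.Vec CfsgLib.Schur
open Cfsg.Agent.S1691 (sgn)

attribute [local irreducible] xW bW cW sigWs

theorem powers_facts : uX ^ 23 = 1 ∧ uB ^ 11 = 1 ∧ uC ^ 3 = 1 :=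
  ⟨trivOK_spec xW_pow, trivOK_spec bW_pow, trivOK_spec cW_pow⟩

theorem words_ok : md.okW xW = true ∧ md.okW bW = true ∧ md.okW cW = true := by
  have h := three_ok
  simp only [Bool.and_eq_true] at h
  exact ⟨h.1.1.1.1.1, h.1.1.1.1.2, h.1.1.1.2⟩

theorem uX_ne : uX ≠ 1 := by
  intro h
  have h1 := pow_ne
  simp only [Bool.and_eq_true, Bool.not_eq_true'] at h1
  have hlt : 2 < md.R.N := by
    show 2 < Fi24Cert.rep.N
    rw [Fi24Cosets.rep_N]; norm_num
  have h2 := md.powAt_eq words_ok.1 1 ⟨2, hlt⟩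
  rw [pow_one, show md.val xW = 1 from h, map_one] at h2
  have h3 := h1.1
  rw [show md.powAt xW 1 2 = 2 from h2, Nat.beq_refl] at h3
  exact Bool.false_ne_true h3.symm

theorem orderOf_uX : orderOf uX = 23 :=
  haveI : Fact (Nat.Prime 23) := ⟨by norm_num⟩
  orderOf_eq_prime powers_facts.1 uX_ne

theorem uB_ne : uB ≠ 1 := by
  intro h
  have h1 := pow_ne
  simp only [Bool.and_eq_true, Bool.not_eq_true'] at h1
  have hlt : 2 < md.R.N := by
    show 2 < Fi24Cert.rep.N
    rw [Fi24Cosets.rep_N]; norm_num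
  have h2 := md.powAt_eq words_ok.2.1 1 ⟨2, hlt⟩
  rw [pow_one, show md.val bW = 1 from h, map_one] at h2
  have h3 := h1.2
  rw [show md.powAt bW 1 2 = 2 from h2, Nat.beq_refl] at h3
  exact Bool.false_ne_true h3.symm

theorem conj_x : uB * uX * uB⁻¹ = uX ^ 6 := by
  have h := trivOK_spec bx_rel
  rw [pow_one, md.val_append, md.val_append, md.val_append, md.val_reverse words_ok.2.1,
    show md.val (wpow xW.reverse 6) = evW md.ev (wpow xW.reverse 6) from rfl, evW_wpow,
    show evW md.ev xW.reverse = md.val xW.reverse from rfl, md.val_reverse words_ok.1, inv_pow] at h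
  exact eq_of_mul_inv_eq_one h

theorem comm_bc : Commute uC uB := by
  have h := trivOK_spec bc_rel
  rw [pow_one, md.val_append, md.val_append, md.val_append, md.val_reverse words_ok.2.1,
    md.val_reverse words_ok.2.2] at h
  exact mul_inv_eq_iff_eq_mul.1 (eq_of_mul_inv_eq_one h)

theorem sgn_sig {s : ℕ} (hs : s < 4) : sgn (md.val (sigWs.getD s [])) = 1 := (sigWs_facts hs).2.2.2

theorem uX_pow_fix (n : ℕ) : md.phi (uX ^ n) md.o = md.o := by
  rw [map_pow]; exact Equiv.Perm.pow_apply_eq_self_of_apply_eq_self uX_fix n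

/-- An even element commuting with the element of order 23 is one of its powers. -/
theorem cent_x_even {y : Cfsg.Spor.Fi24} (hs : sgn y = 1) (hc : Commute y uX) : ∃ n : ℕ, y = uX ^ n := by
  have ho : md.phi y md.o = md.o := by
    have h1 : md.phi uX (md.phi y md.o) = md.phi y md.o := by
      rw [← Equiv.Perm.mul_apply, ← map_mul, ← hc.eq, map_mul, Equiv.Perm.mul_apply, uX_fix]
    exact Fin.ext (x_fixed h1)
  obtain ⟨m, hm⟩ := cent_x ho hc
  have h1 : uX ^ m * y = 1 :=
    eq_one_of_even hm (by rw [map_mul, map_pow, sgn_three.1, one_pow, hs, one_mul])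
  refine ⟨22 * m, ?_⟩
  rw [eq_inv_of_mul_eq_one_right h1]
  refine inv_eq_of_mul_eq_one_left ?_
  rw [← pow_add, show 22 * m + m = 23 * m by ring, pow_mul, powers_facts.1, one_pow]

theorem cPow_val {r : ℕ} (hr : r < 3) : md.val (cPow r) = uC ^ r := by
  rcases (by omega : r = 0 ∨ r = 1 ∨ r = 2) with rfl | rfl | rfl
  · show evW md.ev [] = _
    rw [evW_nil, pow_zero]
  · show md.val cW = _
    rw [pow_one]
  · show md.val cW.reverse = _
    rw [md.val_reverse words_ok.2.2]
    refine inv_eq_of_mul_eq_one_left ?_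
    rw [← pow_succ]; exact powers_facts.2.2

theorem candW_val {r s : ℕ} (hr : r < 3) : md.val (candW r s) = uC ^ r * md.val (sigWs.getD s []) := by
  rw [candW, md.val_append, cPow_val hr]

/-- The elements centralising the element of order 11 in the commutator subgroup. -/
theorem cent_b_even {y : Cfsg.Spor.Fi24} (hs : sgn y = 1) (hc : Commute y uB) :
    ∃ r s i, r < 3 ∧ s < 4 ∧ i < 11 ∧ y = md.val (candW r s) * uB ^ i := by
  have h1 : md.phi uB (md.phi y md.o) = md.phi y md.o := by
    rw [← Equiv.Perm.mul_apply, ← map_mul, ← hc.eq, map_mul, Equiv.Perm.mul_apply, uB_fix]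
  have hcp := c_points
  simp only [Bool.and_eq_true] at hcp
  have h2 := b_fixed h1
  obtain ⟨r, hr, hro⟩ : ∃ r, r < 3 ∧ md.phi (uC ^ r) md.o = md.phi y md.o := by
    simp only [List.mem_cons, List.not_mem_nil, or_false] at h2
    rcases h2 with h | h | h
    · refine ⟨0, by norm_num, ?_⟩
      rw [pow_zero, map_one]
      exact (Fin.ext h : md.phi y md.o = md.o).symm
    · refine ⟨1, by norm_num, Fin.ext ?_⟩
      rw [pow_one, md.phi_at words_ok.2.2, h, md_pAt]
      exact Nat.eq_of_beq_eq_true hcp.1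
    · refine ⟨2, by norm_num, Fin.ext ?_⟩
      rw [← cPow_val (by norm_num : 2 < 3)]
      show (md.phi (md.val cW.reverse) md.o : ℕ) = _
      rw [md.phi_at (by rw [md.okW_reverse]; exact words_ok.2.2), h, md_pAt]
      exact Nat.eq_of_beq_eq_true hcp.2
  set y0 := (uC ^ r)⁻¹ * y with hy0
  have ho : md.phi y0 md.o = md.o := by
    rw [hy0, map_mul, Equiv.Perm.mul_apply, map_inv, Equiv.Perm.inv_eq_iff_eq, hro]
  obtain ⟨i, s, hs4, hv⟩ := cent_b_stab ho (((comm_bc.pow_left r).inv_left).mul_left hc)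
  have hsy0 : sgn y0 = 1 := by
    rw [hy0, map_mul, map_inv, map_pow, sgn_three.2.2, one_pow, inv_one, hs, one_mul]
  have hv' : y0 = uB ^ i * md.val (sigWs.getD s []) := by
    rcases hv with hv | hv
    · exact hv
    · rw [hv, map_mul, map_mul, map_pow, sgn_three.2.1, one_pow, sgn_sig hs4, one_mul, one_mul, sgn_zEl] at hsy0
      exact absurd hsy0 (by decide)
  refine ⟨r, s, i % 11, hr, hs4, Nat.mod_lt _ (by norm_num), ?_⟩
  have e : uB ^ (i % 11) = uB ^ i := by
    conv_rhs => rw [← Nat.mod_add_div i 11, pow_add, pow_mul, powers_facts.2.1, one_pow, mul_one]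
  rw [candW_val hr, e, mul_assoc, ((sigWs_facts hs4).1.pow_right i).eq, ← hv', hy0, mul_inv_cancel_left]

/-- The relation separating the candidates. -/
def outRels : List (List ℕ × ℕ) := [([2], 3), ([0, 1, 2] ++ (List.replicate 22 0 ++ [2, 2]), 12)]

theorem evalThree_rep {M : Type} [Monoid M] (x y z : M) :
    ∀ (n : ℕ) (w : List ℕ), evalThree x y z (List.replicate n 0 ++ w) = x ^ n * evalThree x y z w
  | 0, w => by simp
  | n + 1, w => by
    rw [List.replicate_succ, List.cons_append, evalThree, evalThree_rep x y z n w, List.getD_cons_zero,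
      pow_succ', mul_assoc]

theorem rel_value {M : Type} [Monoid M] (x y z : M) :
    evalThree x y z ([0, 1, 2] ++ (List.replicate 22 0 ++ [2, 2])) = x * (y * (z * (x ^ 22 * (z * z)))) := by
  show evalThree x y z (0 :: 1 :: 2 :: (List.replicate 22 0 ++ [2, 2])) = _
  rw [evalThree, evalThree, evalThree, evalThree_rep, evalThree, evalThree, evalThree]
  simp only [List.getD_cons_zero, List.getD_cons_succ, mul_one]

theorem rel_group {g b x : Cfsg.Spor.Fi24} (hg : g ^ 23 = 1) (hx : x ^ 3 = 1) :
    g * (b * (x * (g ^ 22 * (x * x)))) = g * b * x * g⁻¹ * x⁻¹ := by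
  rw [inv_eq_of_mul_eq_one_left (show g ^ 22 * g = 1 by rw [← pow_succ]; exact hg),
    inv_eq_of_mul_eq_one_left (show x * x * x = 1 by rw [← hx, pow_succ, pow_two])]
  simp only [mul_assoc]

theorem conj_z_uX : zEl * uX * zEl⁻¹ = uX := by rw [← mem_stab uX_fix, mul_inv_cancel_right]

theorem conj_z_uB : zEl * uB * zEl⁻¹ = uB := by rw [← mem_stab uB_fix, mul_inv_cancel_right]

theorem twin_val : zEl * uC * zEl⁻¹ = md.val (candW 1 2) := by
  have h := trivOK_spec twin_rel
  have hok : md.okW (candW 1 2) = true := by decide +kernel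
  rw [pow_one] at h
  simp only [Model.val, evW_cons, evW_append] at h
  rw [show evW md.ev (candW 1 2).reverse = (md.val (candW 1 2))⁻¹ from md.val_reverse hok] at h
  rw [inv_eq_of_mul_eq_one_left zEl_sq]
  refine eq_of_mul_inv_eq_one ?_
  rw [← h]
  simp only [zEl, mul_assoc]

theorem twin_ne_c : zEl * uC * zEl⁻¹ ≠ uC := by
  intro he
  have h := twin_ne
  simp only [Bool.not_eq_true'] at h
  have hok : md.okW (0 :: (cW ++ 0 :: cW.reverse)) = true := by decide +kernel
  have hlt : 2 < md.R.N := by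
    show 2 < Fi24Cert.rep.N
    rw [Fi24Cosets.rep_N]; norm_num
  have h1 := md.phi_at hok ⟨2, hlt⟩
  have e : md.val (0 :: (cW ++ 0 :: cW.reverse)) = 1 := by
    simp only [Model.val, evW_cons, evW_append]
    rw [show evW md.ev cW.reverse = uC⁻¹ from md.val_reverse words_ok.2.2]
    rw [inv_eq_of_mul_eq_one_left zEl_sq] at he
    calc md.ev 0 * (uC * (md.ev 0 * uC⁻¹)) = zEl * uC * zEl * uC⁻¹ := by simp only [zEl, mul_assoc]
      _ = 1 := by rw [he, mul_inv_cancel]
  rw [e, map_one, md_pAt] at h1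
  rw [show fAt (0 :: (cW ++ 0 :: cW.reverse)) 2 = 2 from h1.symm, Nat.beq_refl] at h
  exact Bool.false_ne_true h.symm

/-- The element of order 23, in the commutator subgroup. -/
noncomputable def aG : Cfsg.Spor.Fi24' := ⟨uX, mem_comm_iff.2 sgn_three.1⟩

/-- The element of order 11, in the commutator subgroup. -/
noncomputable def bG : Cfsg.Spor.Fi24' := ⟨uB, mem_comm_iff.2 sgn_three.2.1⟩

/-- The element of order 3, in the commutator subgroup. -/
noncomputable def cG : Cfsg.Spor.Fi24' := ⟨uC, mem_comm_iff.2 sgn_three.2.2⟩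

/-- The other survivor. -/
noncomputable def cG2 : Cfsg.Spor.Fi24' :=
  ⟨zEl * uC * zEl⁻¹, mem_comm_iff.2 (by rw [map_mul, map_mul, map_inv, sgn_three.2.2, mul_one, mul_inv_cancel])⟩

theorem cand_mem (q : ℕ) : sgn (md.val (candW (q / 44 % 3) (q / 11 % 4)) * uB ^ (q % 11)) = 1 := by
  rw [map_mul, map_pow, sgn_three.2.1, one_pow, mul_one, candW_val (Nat.mod_lt _ (by norm_num)), map_mul,
    map_pow, sgn_three.2.2, one_pow, one_mul, sgn_sig (Nat.mod_lt _ (by norm_num))]

/-- The centraliser of the element of order 11, listed. -/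
noncomputable def centList : List Cfsg.Spor.Fi24' :=
  (List.range 132).map fun q => ⟨_, mem_comm_iff.2 (cand_mem q)⟩

theorem gen_top3 : Subgroup.closure ({aG, bG, cG} : Set Cfsg.Spor.Fi24') = ⊤ := by
  apply Subgroup.map_injective (Subgroup.subtype_injective (commutator Cfsg.Spor.Fi24))
  rw [MonoidHom.map_closure, ← MonoidHom.range_eq_map, Subgroup.range_subtype, Set.image_insert_eq,
    Set.image_insert_eq, Set.image_singleton]
  refine le_antisymm ?_ fun g hg => genK_eq (mem_comm_iff.1 hg)
  rw [Subgroup.closure_le]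
  rintro y (rfl | rfl | rfl)
  exacts [aG.2, bG.2, cG.2]

theorem finite' : Finite Cfsg.Spor.Fi24' :=
  Nat.finite_of_card_ne_zero (by rw [Fi24Simple.card_fi24']; norm_num)

theorem card_out_le_two : Nat.card (Cfsg.Out Cfsg.Spor.Fi24') ≤ 2 := by
  classical
  have : Fact (Nat.Prime 23) := ⟨by norm_num⟩
  have := finite'
  have hord : orderOf aG = 23 := by rw [← Subgroup.orderOf_coe]; exact orderOf_uX
  refine card_out_le aG bG cG 23 6 1 hord (by rw [Fi24Simple.card_fi24']; norm_num) ?_ ?_ (by norm_num) [1, 5] ?_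
    ?_ centList ?_ gen_top3 outRels ?_ [(1, cG), (1, cG2)] ?_
  · intro y hy
    have h : Commute (y : Cfsg.Spor.Fi24) uX := mul_inv_eq_iff_eq_mul.1 (congrArg Subtype.val hy)
    obtain ⟨n, hn⟩ := cent_x_even (mem_comm_iff.1 y.2) h
    exact ⟨n, Subtype.ext hn⟩
  · exact Subtype.ext conj_x
  · have key : ((List.range 23).all fun j => j == 0 ||
        (List.range 11).any fun i => [1, 5].contains (j * 6 ^ i % 23)) = true := by decide +kernel
    intro j hj hj0
    have h := List.all_eq_true.mp key j (List.mem_range.mpr hj)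
    simp only [Bool.or_eq_true, beq_iff_eq, hj0, false_or, List.any_eq_true, List.contains_eq_mem,
      decide_eq_true_eq] at h
    obtain ⟨i, -, hi⟩ := h
    exact ⟨i, hi⟩
  · refine Subtype.ext ?_
    show uC * uB * uC⁻¹ = ((bG ^ 1 : Cfsg.Spor.Fi24') : Cfsg.Spor.Fi24)
    rw [pow_one]
    exact mul_inv_eq_iff_eq_mul.2 comm_bc.eq
  · intro y hy
    rw [pow_one] at hy
    have h : Commute (y : Cfsg.Spor.Fi24) uB := mul_inv_eq_iff_eq_mul.1 (congrArg Subtype.val hy)
    obtain ⟨r, s, i, hr, hs, hi, hv⟩ := cent_b_even (mem_comm_iff.1 y.2) h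
    refine List.mem_map.2 ⟨44 * r + 11 * s + i, List.mem_range.2 (by omega), Subtype.ext ?_⟩
    show md.val (candW _ _) * uB ^ _ = (y : Cfsg.Spor.Fi24)
    rw [hv, show (44 * r + 11 * s + i) / 44 % 3 = r by omega, show (44 * r + 11 * s + i) / 11 % 4 = s by omega,
      show (44 * r + 11 * s + i) % 11 = i by omega]
  · intro r hr
    refine Subtype.ext ?_
    show ((evalThree aG bG cG r.1 ^ r.2 : Cfsg.Spor.Fi24') : Cfsg.Spor.Fi24) = 1
    rw [SubgroupClass.coe_pow, show ((evalThree aG bG cG r.1 : Cfsg.Spor.Fi24') : Cfsg.Spor.Fi24) =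
      evalThree uX uB uC r.1 from evalThree_map (commutator Cfsg.Spor.Fi24).subtype aG bG cG r.1]
    simp only [outRels, List.mem_cons, List.not_mem_nil, or_false] at hr
    rcases hr with rfl | rfl
    · show evalThree uX uB uC [2] ^ 3 = 1
      rw [evalThree, evalThree, mul_one]
      exact powers_facts.2.2
    · show evalThree uX uB uC ([0, 1, 2] ++ (List.replicate 22 0 ++ [2, 2])) ^ 12 = 1
      rw [rel_value, rel_group powers_facts.1 powers_facts.2.2]
      have h := trivOK_spec main_rel
      rw [md.val_append, md.val_append, md.val_append, md.val_append, md.val_reverse words_ok.1,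
        md.val_reverse words_ok.2.2] at h
      exact h
  · intro j hj x hx hR
    obtain ⟨q, hq, rfl⟩ := List.mem_map.1 hx
    rw [List.mem_range] at hq
    set r := q / 44 % 3 with hr
    set s := q / 11 % 4 with hs
    have hr3 : r < 3 := Nat.mod_lt _ (by norm_num)
    have hs4 : s < 4 := Nat.mod_lt _ (by norm_num)
    set g := md.val (candW r s) with hg
    have hgb : Commute g uB := by
      rw [hg, candW_val hr3]
      exact (comm_bc.pow_left r).mul_left (sigWs_facts hs4).1
    have hval : ∀ t ∈ outRels, evalThree (uX ^ j) uB (g * uB ^ (q % 11)) t.1 ^ t.2 = 1 := by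
      intro t ht
      have h1 := congrArg (commutator Cfsg.Spor.Fi24).subtype (hR t ht)
      rw [map_pow, evalThree_map, map_one, map_pow] at h1
      exact h1
    have h3 : (g * uB ^ (q % 11)) ^ 3 = 1 := by
      have h := hval ([2], 3) List.mem_cons_self
      rw [evalThree, evalThree, mul_one] at h
      exact h
    have hu : uB ^ (q % 11) = 1 := by
      have h6 : g ^ 6 = 1 := by
        have h := cand_pow hr3 hs4
        unfold candExp at h
        rcases (by omega : r = 0 ∨ (r = 1 ∨ r = 2)) with h0 | h0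
        · rw [show Nat.beq r 0 = true by rw [h0]; rfl, cond_true] at h
          rw [show (6 : ℕ) = 2 * 3 from rfl, pow_mul, h, one_pow]
        · rw [show Nat.beq r 0 = false by rcases h0 with e | e <;> rw [e] <;> rfl, cond_false] at h
          rw [show (6 : ℕ) = 3 * 2 from rfl, pow_mul, h, one_pow]
      have h1 : (g * uB ^ (q % 11)) ^ 6 = 1 := by
        rw [show (6 : ℕ) = 3 * 2 from rfl, pow_mul, h3, one_pow]
      rw [(hgb.pow_right _).mul_pow, h6, one_mul, ← pow_mul] at h1
      calc uB ^ (q % 11) = uB ^ (q % 11) * (uB ^ 11) ^ (q % 11) := by rw [powers_facts.2.1, one_pow, mul_one]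
        _ = (uB ^ (q % 11 * 6)) ^ 2 := by rw [← pow_mul, ← pow_mul, ← pow_add]; congr 1; ring
        _ = 1 := by rw [h1, one_pow]
    rw [hu, mul_one] at h3 hval
    have hjj : j = 1 ∨ j = 5 := by simpa using hj
    by_cases hsv : j = 1 ∧ r = 1 ∧ (s = 0 ∨ s = 2)
    · obtain ⟨rfl, hr1, hs02⟩ := hsv
      rcases hs02 with hs0 | hs2
      · refine List.mem_cons.2 (Or.inl (Prod.ext rfl (Subtype.ext ?_)))
        show g * uB ^ (q % 11) = uC
        rw [hu, mul_one, hg, hr1, hs0, candW_val (by norm_num), pow_one]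
        show uC * md.val (sigWs.getD 0 []) = uC
        rw [show sigWs.getD 0 [] = [] by unfold sigWs; rfl]
        show uC * evW md.ev [] = uC
        rw [evW_nil, mul_one]
      · refine List.mem_cons.2 (Or.inr (List.mem_singleton.2 (Prod.ext rfl (Subtype.ext ?_))))
        show g * uB ^ (q % 11) = zEl * uC * zEl⁻¹
        rw [hu, mul_one, hg, hr1, hs2, twin_val]
    · exfalso
      obtain ⟨p, hp⟩ := kill hjj hr3 hs4 hsv
      simp only [killOK, Bool.and_eq_true, Nat.blt_eq, Bool.not_eq_true'] at hp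
      obtain ⟨⟨hplt, hok⟩, hne⟩ := hp
      have h := hval ([0, 1, 2] ++ (List.replicate 22 0 ++ [2, 2]), 12) (List.mem_cons_of_mem _ List.mem_cons_self)
      rw [rel_value, rel_group (by rw [← pow_mul, mul_comm, pow_mul, powers_facts.1, one_pow]) h3] at h
      have hokc : md.okW (candW r s) = true := by
        have h1 := hok
        simp only [relW, md.okW_append, Bool.and_eq_true] at h1
        exact h1.1.1.2
      have hokx : md.okW (wpow xW j) = true := by
        have h1 := hok
        simp only [relW, md.okW_append, Bool.and_eq_true] at h1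
        exact h1.1.1.1.1
      have e : md.val (relW j r s) = uX ^ j * uB * g * (uX ^ j)⁻¹ * g⁻¹ := by
        rw [relW, md.val_append, md.val_append, md.val_append, md.val_append, md.val_reverse hokx,
          md.val_reverse hokc, show md.val (wpow xW j) = evW md.ev (wpow xW j) from rfl, evW_wpow, hg]
      rw [← e] at h
      have h2 := md.powAt_eq hok 12 ⟨p, hplt⟩
      rw [h, map_one] at h2
      rw [show md.powAt (relW j r s) 12 p = p from h2, Nat.beq_refl] at hne
      exact Bool.false_ne_true hne.symm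

/-- Conjugation by the central letter. -/
noncomputable def outer : MulAut Cfsg.Spor.Fi24' := MulAut.conjNormal zEl

theorem outer_not_inner : outer ∉ Cfsg.Inn Cfsg.Spor.Fi24' := by
  rintro ⟨g, hg⟩
  have h : ∀ y : Cfsg.Spor.Fi24', (g : Cfsg.Spor.Fi24) * y * (g : Cfsg.Spor.Fi24)⁻¹ = zEl * y * zEl⁻¹ := fun y => by
    have h1 := congrArg Subtype.val (DFunLike.congr_fun hg y)
    rw [outer, MulAut.conjNormal_apply] at h1
    exact h1
  have hx : Commute (g : Cfsg.Spor.Fi24) uX :=
    mul_inv_eq_iff_eq_mul.1 ((h aG).trans conj_z_uX)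
  obtain ⟨n, hn⟩ := cent_x_even (mem_comm_iff.1 g.2) hx
  have hb : (g : Cfsg.Spor.Fi24) * uB = uB * g := mul_inv_eq_iff_eq_mul.1 ((h bG).trans conj_z_uB)
  have h6 : uX ^ (6 * n) = uX ^ n := by
    have h1 : uB * uX ^ n * uB⁻¹ = uX ^ (6 * n) := by rw [← conj_pow, conj_x, ← pow_mul]
    rw [← h1, ← hn, ← hb, mul_inv_cancel_right]
  have h23 : n % 23 = 0 := by
    have := pow_inj_mod.mp h6
    rw [orderOf_uX] at this
    omega
  have hg1 : (g : Cfsg.Spor.Fi24) = 1 := by rw [hn, ← pow_mod_orderOf, orderOf_uX, h23, pow_zero]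
  apply twin_ne_c
  have h2 := h cG
  rw [hg1, one_mul, inv_one, mul_one] at h2
  exact h2.symm

/-- The outer automorphism group has order two. -/
theorem card_out : Nat.card (Cfsg.Out Cfsg.Spor.Fi24') = 2 :=
  le_antisymm card_out_le_two (by
    have := finite'
    exact two_le_card_out _ outer_not_inner)

end CfsgLib.Fi24Out
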