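import Cfsg.Agent.Lib.Fi24Out.Tools

/-!
Orbits of one word, listed, and orbit unions computed in steps.
-/
set_option autoImplicit false
set_option maxRecDepth 20000
set_option Elab.async false

namespace CfsgLib.Fi24Out

open CfsgLib.Presented CfsgLib.Presented.Vec

/-- Each listed point goes to the next one. -/
noncomputable def chainOK (w : List ℕ) : List ℕ → Bool :=
  fun l => List.rec (motive := fun _ => ℕ → Bool) (fun _ => true)
    (fun p _ ih q => Nat.beq (fAt w q) p && ih p) l.tail (l.getD 0 0)

theorem chain_aux {w : List ℕ} (hw : md.okW w = true) : ∀ (l : List ℕ) (q : Pt),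
    List.rec (motive := fun _ => ℕ → Bool) (fun _ => true)
      (fun p _ ih r => Nat.beq (fAt w r) p && ih p) l (q : ℕ) = true →
    ∀ i, i < l.length → l.getD i 0 = (md.phi (md.val w ^ (i + 1)) q : ℕ)
  | [], _, _, i, hi => absurd hi (Nat.not_lt_zero i)
  | p :: l, q, h, i, hi => by
    change (Nat.beq (fAt w q) p && List.rec (motive := fun _ => ℕ → Bool) (fun _ => true)
      (fun p _ ih r => Nat.beq (fAt w r) p && ih p) l p) = true at h
    rw [Bool.and_eq_true] at h
    have hp : (md.phi (md.val w) q : ℕ) = p := by rw [md.phi_at hw]; exact Nat.eq_of_beq_eq_true h.1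
    cases i with
    | zero => rw [List.getD_cons_zero, pow_one, hp]
    | succ i =>
      rw [List.getD_cons_succ, chain_aux hw l (md.phi (md.val w) q) (by rw [hp]; exact h.2) i
        (by simpa using hi), pow_succ _ (i + 1), map_mul, Equiv.Perm.mul_apply]

theorem chainOK_spec {w : List ℕ} {l : List ℕ} (hw : md.okW w = true) (h : chainOK w l = true) {q : Pt}
    (hq : (q : ℕ) = l.getD 0 0) {i : ℕ} (hi : i < l.length) : l.getD i 0 = (md.phi (md.val w ^ i) q : ℕ) := by
  cases l with
  | nil => exact absurd hi (Nat.not_lt_zero i)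
  | cons p l =>
    cases i with
    | zero => simpa using hq.symm
    | succ i =>
      rw [List.getD_cons_succ]
      refine chain_aux hw l q ?_ i (by simpa using hi)
      rw [hq]
      exact h

/-- An element commuting with the word and fixing the first point fixes the whole list. -/
theorem fix_chain {w : List ℕ} {l : List ℕ} (hw : md.okW w = true) (h : chainOK w l = true) {q : Pt}
    (hq : (q : ℕ) = l.getD 0 0) {y : Cfsg.Spor.Fi24} (hc : Commute y (md.val w)) (hy : md.phi y q = q)
    {j : Pt} (hj : (j : ℕ) ∈ l) : md.phi y j = j := by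
  obtain ⟨i, hi, he⟩ := List.getElem_of_mem hj
  have e : j = md.phi (md.val w ^ i) q := Fin.ext (by
    rw [← chainOK_spec hw h hq hi, List.getD_eq_getElem _ _ hi, he])
  rw [e, Model.apply_pow_comm hc, hy]

/-- Continue an orbit union from `T`. -/
noncomputable def orbFrom (w : List ℕ) (S T : ℕ) (n : ℕ) : ℕ :=
  Nat.rec (motive := fun _ => ℕ) T
    (fun _ prev => force prev fun U => Nat.lor S (imgSet Fi24Cert.rep w U)) n

/-- All points of a set are brought into the list by powers of the word. -/
def Covered (w : List ℕ) (l : List ℕ) (T : ℕ) : Prop :=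
  ∀ i : Pt, T.testBit i = true → ∃ m, (md.phi (md.val w ^ m) i : ℕ) ∈ l

theorem covered_start (w : List ℕ) (l : List ℕ) : Covered w l (ptsSet l) :=
  fun i hi => ⟨0, by simpa using ptsSet_spec hi⟩

theorem covered_orbFrom {w : List ℕ} (hw : md.okW w = true) {l : List ℕ} {T : ℕ} (hT : Covered w l T) :
    ∀ n, Covered w l (orbFrom w (ptsSet l) T n)
  | 0 => hT
  | n + 1 => fun i hi => by
    change Nat.testBit (force (orbFrom w (ptsSet l) T n) fun U =>
      Nat.lor (ptsSet l) (imgSet Fi24Cert.rep w U)) (i : ℕ) = true at hi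
    rw [force_eq] at hi
    change Nat.testBit (ptsSet l ||| _) _ = true at hi
    rw [Nat.testBit_or, Bool.or_eq_true] at hi
    rcases hi with hi | hi
    · exact covered_start w l i hi
    · rw [testBit_imgSet Fi24Cert.rep_valid w _ i] at hi
      have h2 := hi
      have e : (evW (Fi24Cert.rep.perm Fi24Cert.rep_valid) w i : ℕ) = (md.phi (md.val w) i : ℕ) := by
        rw [md.phi_val hw]; rfl
      rw [e] at h2
      obtain ⟨m, hm⟩ := covered_orbFrom hw hT n (md.phi (md.val w) i) h2
      exact ⟨m + 1, by rw [pow_succ, map_mul, Equiv.Perm.mul_apply]; exact hm⟩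

theorem covered_lit {w : List ℕ} (hw : md.okW w = true) {l : List ℕ} {T T' : ℕ} (hT : Covered w l T) {n : ℕ}
    (h : agreeOn Fi24Cert.rep.N (orbFrom w (ptsSet l) T n) T' = true) : Covered w l T' :=
  fun i hi => covered_orbFrom hw hT n i (by rw [agreeOn_spec h i.2]; exact hi)

end CfsgLib.Fi24Out
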