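import Cfsg.Agent.Lib.Fi24Out.Geom

/-!
Certificates for centralisers in a table: orbit covers, adjacency signatures and the last step.
-/
set_option autoImplicit false
set_option maxRecDepth 20000

namespace CfsgLib.Fi24Out

open CfsgLib.Presented CfsgLib.Presented.Vec

/-- The points sent into `S` by one of the first powers of a word. -/
noncomputable def orbU (R : Rep) (w : List ℕ) (S : ℕ) (n : ℕ) : ℕ :=
  Nat.rec (motive := fun _ => ℕ) S (fun _ prev => force prev fun T => Nat.lor S (imgSet R w T)) n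

theorem orbU_spec {R : Rep} (h : R.valid = true) (w : List ℕ) (S : ℕ) :
    ∀ (n : ℕ) (i : Fin R.N), (orbU R w S n).testBit i = true →
      ∃ m, S.testBit ((evW (R.perm h) w ^ m) i : ℕ) = true
  | 0, i, hi => ⟨0, by rw [pow_zero]; exact hi⟩
  | n + 1, i, hi => by
    change Nat.testBit (force (orbU R w S n) fun T => Nat.lor S (imgSet R w T)) _ = true at hi
    rw [force_eq] at hi
    change Nat.testBit (S ||| _) _ = true at hi
    rw [Nat.testBit_or, Bool.or_eq_true, testBit_imgSet h] at hi
    rcases hi with hi | hi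
    · exact ⟨0, by simpa using hi⟩
    · obtain ⟨m, hm⟩ := orbU_spec h w S n _ hi
      exact ⟨m + 1, by rwa [pow_succ, Equiv.Perm.mul_apply]⟩

namespace Model

variable {G : Type} [Group G] {M : Model G}

variable (M) in
/-- The region is covered by the orbits of the listed points under the word. -/
noncomputable def coverOK (uw : List ℕ) (n region : ℕ) (reps : List ℕ) : Bool :=
  M.okW uw && subOn M.R region (orbU M.R uw (ptsSet reps) n)

theorem coverOK_spec {uw : List ℕ} {n region : ℕ} {reps : List ℕ} (h : M.coverOK uw n region reps = true)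
    (i : Fin M.R.N) (hi : region.testBit i = true) :
    ∃ m, (M.phi (M.val uw ^ m) i : ℕ) ∈ reps := by
  simp only [coverOK, Bool.and_eq_true] at h
  obtain ⟨m, hm⟩ := orbU_spec M.valid uw _ n i (subOn_spec h.2 i hi)
  refine ⟨m, ?_⟩
  rw [map_pow, M.phi_val h.1]
  exact ptsSet_spec hm

variable (M) in
/-- Whether the point of `v` is adjacent to its image under the `i`th power of `uw`. -/
noncomputable def selfB (uw v : List ℕ) (i : ℕ) : Bool :=
  force (M.pAt v M.o) fun q => M.relB v (M.powAt uw i q)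

theorem selfB_iff {uw v : List ℕ} (hu : M.okW uw = true) (hv : M.okW v = true) (i : ℕ) {q : Fin M.R.N}
    (hq : (q : ℕ) = M.pAt v M.o) :
    M.selfB uw v i = true ↔ M.Near q (M.phi (M.val uw ^ i) q) := by
  have hq' : M.phi (M.val v) M.o = q := Fin.ext (by rw [M.phi_at hv, hq])
  rw [selfB, force_eq, ← hq, M.powAt_eq hu, M.relB_iff hv hq']

/-- Adjacency to the image under a commuting power is a function of the orbit. -/
theorem near_shift (u : G) (m i : ℕ) (q : Fin M.R.N) :
    M.Near (M.phi (u ^ m) q) (M.phi (u ^ i) (M.phi (u ^ m) q)) ↔ M.Near q (M.phi (u ^ i) q) := by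
  have h : M.phi (u ^ i) (M.phi (u ^ m) q) = M.phi (u ^ m) (M.phi (u ^ i) q) := by
    rw [← Equiv.Perm.mul_apply, ← map_mul, ← Equiv.Perm.mul_apply, ← map_mul, ← pow_add, ← pow_add,
      Nat.add_comm]
  rw [h, M.near_apply]

theorem apply_pow_comm {y u : G} (h : Commute y u) (m : ℕ) (q : Fin M.R.N) :
    M.phi y (M.phi (u ^ m) q) = M.phi (u ^ m) (M.phi y q) := by
  rw [← Equiv.Perm.mul_apply, ← map_mul, (h.pow_right m).eq, map_mul, Equiv.Perm.mul_apply]

theorem near_self_image {y u : G} (h : Commute y u) (i : ℕ) (q : Fin M.R.N) :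
    M.Near (M.phi y q) (M.phi (u ^ i) (M.phi y q)) ↔ M.Near q (M.phi (u ^ i) q) := by
  rw [← apply_pow_comm h, M.near_apply]

variable (M) in
/-- The points of `N0` with prescribed adjacency to the points of the listed words. -/
noncomputable def sigSet (vs : List (List ℕ × Bool)) : ℕ :=
  vs.foldr (fun e acc => force acc fun T =>
    Nat.land T (cond e.2 (M.nearSet e.1) (Nat.xor (M.nearSet e.1) (ones M.R.N)))) M.N0

theorem sigSet_spec {i : Fin M.R.N} (h0 : M.N0.testBit i = true) :
    ∀ {vs : List (List ℕ × Bool)}, (∀ e ∈ vs, M.okW e.1 = true ∧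
      (M.Near (M.phi (M.val e.1) M.o) i ↔ e.2 = true)) → (M.sigSet vs).testBit i = true
  | [], _ => h0
  | e :: vs, h => by
    have ih := sigSet_spec h0 (vs := vs) fun x hx => h x (List.mem_cons_of_mem _ hx)
    obtain ⟨hok, he⟩ := h e List.mem_cons_self
    show Nat.testBit (force (M.sigSet vs) fun T =>
      Nat.land T (cond e.2 (M.nearSet e.1) (Nat.xor (M.nearSet e.1) (ones M.R.N)))) i = true
    rw [force_eq]
    change Nat.testBit (_ &&& _) _ = true
    rw [Nat.testBit_and, ih, Bool.true_and]
    cases hb : e.2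
    · show Nat.testBit (_ ^^^ _) _ = true
      rw [Nat.testBit_xor, testBit_ones, decide_eq_true i.2]
      rw [hb] at he
      have : (M.nearSet e.1).testBit i ≠ true := fun hn =>
        Bool.false_ne_true (he.1 ((M.nearSet_iff hok rfl i).1 hn))
      rw [Bool.eq_false_iff.2 this]; rfl
    · exact (M.nearSet_iff hok rfl i).2 (he.2 hb)

/-- An element fixing the base point and the point of `k`, commuting with all the other letters, is trivial
or the central letter. -/
theorem cent_final (P : M.GenPts) (k : ℕ) (hk : k < M.R.A.eps)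
    (hall : ∀ x, x < M.R.A.eps → x ∈ M.hl ∨ x = k)
    (fixl : List ℕ) (hfixl : ∀ x ∈ fixl, x ∈ M.hl)
    (pts : List ℕ) (hfix : ∀ i : Fin M.R.N, (∀ x ∈ fixl, M.phi (M.ev x) i = i) → (i : ℕ) ∈ pts)
    (hkfix : ∀ x ∈ fixl, M.phi (M.ev x) (M.phi (M.val (P.gw k)) M.o) = M.phi (M.val (P.gw k)) M.o)
    (hpts : ∀ i : Fin M.R.N, (i : ℕ) ∈ pts → i = M.o ∨ i = M.phi (M.val (P.gw k)) M.o ∨
      M.phi (M.ev M.z) i = M.phi (M.val (P.gw k)) M.o)
    (hne : M.phi (M.val (P.gw k)) M.o ≠ M.o) (hzo : M.phi (M.ev M.z) M.o = M.o)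
    {y : G} (hyo : M.phi y M.o = M.o) (hy : ∀ x ∈ M.hl, Commute y (M.ev x)) :
    y = 1 ∨ y = M.ev M.z := by
  set pk := M.phi (M.val (P.gw k)) M.o with hpk
  have key : ∀ w : G, M.phi w M.o = M.o → (∀ x ∈ M.hl, Commute w (M.ev x)) → M.phi w pk = pk → w = 1 := by
    intro w hwo hw hwk
    have hc : ∀ x, x < M.R.A.eps → Commute w (M.ev x) := fun x hx => by
      rcases hall x hx with h | h
      · exact hw x h
      · subst h; exact P.comm hx hwk
    have hcen : ∀ g : G, Commute w g := fun g => by
      have hg : g ∈ Subgroup.closure (M.ev '' Set.Iio M.R.A.eps) := by rw [M.top]; trivial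
      induction hg using Subgroup.closure_induction with
      | mem a ha => obtain ⟨x, hx, rfl⟩ := ha; exact hc x hx
      | one => exact Commute.one_right w
      | mul a b _ _ iha ihb => exact iha.mul_right ihb
      | inv a _ ih => exact ih.inv_right
    apply M.inj
    rw [map_one]
    refine Equiv.ext fun i => ?_
    obtain ⟨g, rfl⟩ := M.trans i
    rw [← Equiv.Perm.mul_apply, ← map_mul, (hcen g).eq, map_mul, Equiv.Perm.mul_apply, hwo]
    rfl
  have hq := hfix (M.phi y pk) fun x hx => by
    rw [← Equiv.Perm.mul_apply, ← map_mul, ← (hy x (hfixl x hx)).eq, map_mul, Equiv.Perm.mul_apply,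
      hkfix x hx]
  rcases hpts _ hq with h | h | h
  · exact absurd ((M.phi y).injective (h.trans hyo.symm)) hne
  · exact Or.inl (key y hyo hy h)
  · right
    have h1 : M.ev M.z * y = 1 := by
      refine key _ ?_ (fun x hx => ?_) ?_
      · rw [map_mul, Equiv.Perm.mul_apply, hyo, hzo]
      · exact Commute.mul_left (M.z_comm x hx) (hy x hx)
      · rw [map_mul, Equiv.Perm.mul_apply, h]
    calc y = M.ev M.z * M.ev M.z * y := by rw [M.sq M.z M.z_lt, one_mul]
      _ = M.ev M.z := by rw [mul_assoc, h1, mul_one]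

end Model

end CfsgLib.Fi24Out
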