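import Cfsg.Agent.Lib.Fi24Out.Inst

/-!
Consequences of the model of Fi24: recognising trivial elements by fixed points, and parity.
-/
set_option autoImplicit false
set_option maxRecDepth 20000
set_option Elab.async false

namespace CfsgLib.Fi24Out

open CfsgLib.Presented CfsgLib.Presented.Vec
open Cfsg.Agent.S1691 (sgn)

/-- The points of the table. -/
abbrev Pt : Type := Fin md.R.N

/-- The central letter of the point stabiliser. -/
noncomputable abbrev zEl : Cfsg.Spor.Fi24 := md.ev 0

/-- The point of a word. -/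
noncomputable abbrev pt (v : List ℕ) : Pt := md.phi (md.val v) md.o

theorem md_eps : md.R.A.eps = 12 := eps_twelve

theorem md_pAt (w : List ℕ) (i : ℕ) : md.pAt w i = fAt w i := rfl

theorem pt_val {v : List ℕ} (h : md.okW v = true) : (pt v : ℕ) = fAt v 0 := md.phi_at h md.o

/-- A literal point of the table. -/
theorem pt_eq {v : List ℕ} {n : ℕ} (h : (md.okW v && Nat.beq (fAt v 0) n) = true) : (pt v : ℕ) = n := by
  rw [Bool.and_eq_true] at h
  rw [pt_val h.1, Nat.eq_of_beq_eq_true h.2]

/-- The moved points of one letter outside the point stabiliser's centre cover all but three points. -/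
noncomputable def fixThreeOK : Bool :=
  subOn Fi24Cert.rep (ones Fi24Cert.rep.N) (([3, 4, 5, 6, 7, 8, 9, 10, 11] : List ℕ).foldr
    (fun x acc => force acc fun T => Nat.lor (moved Fi24Cert.rep [x]) T) (ptsSet [0, 1, 2]))

theorem fix_three_ok : fixThreeOK = true := by decide +kernel

theorem fix_three {i : Pt} (h : ∀ x ∈ ([3, 4, 5, 6, 7, 8, 9, 10, 11] : List ℕ), md.phi (md.ev x) i = i) :
    (i : ℕ) ∈ [0, 1, 2] := by
  have key : ∀ l : List ℕ, (∀ x ∈ l, x < md.R.A.eps ∧ md.phi (md.ev x) i = i) →
      (l.foldr (fun x acc => force acc fun T => Nat.lor (moved Fi24Cert.rep [x]) T) (ptsSet [0, 1, 2])).testBit i = true →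
      (i : ℕ) ∈ [0, 1, 2] := by
    intro l
    induction l with
    | nil => exact fun _ => ptsSet_spec
    | cons x l ih =>
      intro hl hb
      rw [List.foldr_cons, force_eq] at hb
      change Nat.testBit (_ ||| _) _ = true at hb
      rw [Nat.testBit_or, Bool.or_eq_true] at hb
      rcases hb with hb | hb
      · obtain ⟨hx, hf⟩ := hl x List.mem_cons_self
        refine absurd ?_ (moved_spec Fi24Cert.rep_valid [x] hb)
        rw [evW_cons, evW_nil, mul_one]
        rwa [md.phi_ev x hx] at hf
      · exact ih (fun y hy => hl y (List.mem_cons_of_mem _ hy)) hb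
  refine key _ (fun x hx => ⟨?_, h x hx⟩) ?_
  · rw [md_eps]
    simp only [List.mem_cons, List.not_mem_nil, or_false] at hx
    omega
  · refine subOn_spec fix_three_ok i ?_
    rw [testBit_ones]
    exact decide_eq_true i.2

theorem letter_pts : (Nat.beq (fAt [0, 1] 0) 2 && Nat.beq (fAt [0] 1) 2 && Nat.beq (fAt [0] 0) 0 &&
    ([3, 4, 5, 6, 7, 8, 9, 10, 11] : List ℕ).all fun x => Nat.beq (fAt [x] 2) 2) = true := by decide +kernel

theorem okW_letters : ∀ x ∈ ([0, 3, 4, 5, 6, 7, 8, 9, 10, 11] : List ℕ), md.okW [x] = true := by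
  intro x hx
  rw [md.okW_spec]
  intro y hy
  rw [List.mem_singleton] at hy
  subst hy
  rw [md_eps]
  simp only [List.mem_cons, List.not_mem_nil, or_false] at hx
  omega

theorem zEl_fix : md.phi zEl md.o = md.o := by
  apply Fin.ext
  have h := letter_pts
  simp only [Bool.and_eq_true] at h
  have h0 := md.phi_at (okW_letters 0 (by decide)) md.o
  simp only [Model.val, evW_cons, evW_nil, mul_one] at h0
  rw [h0]
  exact Nat.eq_of_beq_eq_true h.1.2

theorem mem_stab {g : Cfsg.Spor.Fi24} (h : md.phi g md.o = md.o) : g * zEl = zEl * g :=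
  md.z_central (md.stab g h)

theorem zEl_sq : zEl * zEl = 1 := md.sq 0 md.z_lt

/-- An element fixing the base point and the points of the letters of its stabiliser is trivial or the
central letter. -/
theorem fix_trivial {y : Cfsg.Spor.Fi24} (ho : md.phi y md.o = md.o)
    (h : ∀ x, 2 ≤ x → x < 12 → md.phi y (pt (genPtWord x)) = pt (genPtWord x)) : y = 1 ∨ y = zEl := by
  have hl := letter_pts
  simp only [Bool.and_eq_true, List.all_eq_true] at hl
  obtain ⟨⟨⟨h01, h12⟩, -⟩, hfix⟩ := hl
  have hk : (md.phi (md.val (gp.gw 1)) md.o : ℕ) = 2 := by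
    show (pt (genPtWord 1) : ℕ) = 2
    refine pt_eq ?_
    rw [Bool.and_eq_true]
    exact ⟨by decide +kernel, h01⟩
  refine md.cent_final gp 1 (by rw [md_eps]; decide) (fun x hx => ?_) [3, 4, 5, 6, 7, 8, 9, 10, 11]
    (by decide) [0, 1, 2] (fun i => fix_three) (fun x hx => ?_) (fun i hi => ?_) ?_ zEl_fix ho
    (fun x hx => ?_)
  · rw [md_eps] at hx
    rcases Nat.eq_or_lt_of_le (show 0 ≤ x from Nat.zero_le x) with h0 | h0
    · exact Or.inl (by subst h0; decide)
    · by_cases h1 : x = 1
      · exact Or.inr h1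
      · left
        show x ∈ stabLetters
        simp only [stabLetters, List.mem_cons, List.not_mem_nil, or_false]
        omega
  · apply Fin.ext
    have h1 := md.phi_at (okW_letters x (List.mem_cons_of_mem _ hx)) (md.phi (md.val (gp.gw 1)) md.o)
    simp only [Model.val, evW_cons, evW_nil, mul_one] at h1 ⊢
    simp only [Model.val] at hk
    rw [h1, hk, md_pAt]
    exact Nat.eq_of_beq_eq_true (hfix x hx)
  · simp only [List.mem_cons, List.not_mem_nil, or_false] at hi
    rcases hi with hi | hi | hi
    · exact Or.inl (Fin.ext hi)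
    · right; right
      apply Fin.ext
      have h1 := md.phi_at (okW_letters 0 (by decide)) i
      simp only [Model.val, evW_cons, evW_nil, mul_one] at h1
      rw [show md.z = 0 from rfl, h1, hk, hi, md_pAt]
      exact Nat.eq_of_beq_eq_true h12
    · exact Or.inr (Or.inl (Fin.ext (hi.trans hk.symm)))
  · intro he
    rw [he] at hk
    exact absurd hk (by show ¬ (0 : ℕ) = 2; decide)
  · by_cases h0 : x = 0
    · subst h0
      exact mem_stab ho
    · have hx2 : 2 ≤ x ∧ x < 12 := by
        change x ∈ stabLetters at hx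
        simp only [stabLetters, List.mem_cons, List.not_mem_nil, or_false] at hx
        omega
      exact gp.comm (by rw [md_eps]; exact hx2.2) (h x hx2.1 hx2.2)

/-- The targets of closure certificates. -/
noncomputable def genTargets : List ℕ := (List.range 10).map fun x => fAt (genPtWord (x + 2)) 0

theorem fix_trivial_of_close {seeds : List ℕ} {steps : List (List ℕ × ℕ × ℕ)}
    (h : gp.closeOK genTargets steps seeds = true) {y : Cfsg.Spor.Fi24} (ho : md.phi y md.o = md.o)
    (hs : ∀ i : Pt, (i : ℕ) ∈ seeds → md.phi y i = i) : y = 1 ∨ y = zEl := by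
  refine fix_trivial ho fun x h2 h12 => gp.closeOK_spec h hs _ ?_
  rw [pt_val (v := genPtWord x) (gp.ok x (by rw [md_eps]; exact h12)).1]
  exact List.mem_map.2 ⟨x - 2, List.mem_range.2 (by omega), by rw [Nat.sub_add_cancel h2]⟩

theorem sgn_val {w : List ℕ} (h : md.okW w = true) :
    sgn (md.val w) = Multiplicative.ofAdd (1 : ZMod 2) ^ w.length :=
  Fi24Base.sgn_evW (md.okW_spec.1 h)

theorem sgn_zEl : sgn zEl = Multiplicative.ofAdd (1 : ZMod 2) := by
  have h := sgn_val (w := [0]) (okW_letters 0 (by decide))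
  simpa [Model.val, evW_cons, evW_nil] using h

theorem sgn_even {w : List ℕ} (h : (md.okW w && Nat.beq (w.length % 2) 0) = true) : sgn (md.val w) = 1 := by
  rw [Bool.and_eq_true] at h
  rw [sgn_val h.1]
  obtain ⟨m, hm⟩ := Nat.dvd_of_mod_eq_zero (Nat.eq_of_beq_eq_true h.2)
  rw [hm, pow_mul, show (Multiplicative.ofAdd (1 : ZMod 2)) ^ 2 = 1 by decide, one_pow]

theorem mem_comm_iff {g : Cfsg.Spor.Fi24} : g ∈ commutator Cfsg.Spor.Fi24 ↔ sgn g = 1 := by
  refine ⟨fun h => MonoidHom.mem_ker.1 (Abelianization.commutator_subset_ker sgn h), fun h => ?_⟩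
  have h1 : Abelianization.of g = 1 := by
    rw [← Cfsg.Agent.S1691.factor, MonoidHom.comp_apply, h, map_one]
  exact (QuotientGroup.eq_one_iff g).1 h1

/-- An even element that is trivial or the central letter is trivial. -/
theorem eq_one_of_even {y : Cfsg.Spor.Fi24} (h : y = 1 ∨ y = zEl) (hs : sgn y = 1) : y = 1 := by
  rcases h with h | h
  · exact h
  · rw [h, sgn_zEl] at hs
    exact absurd hs (by decide)

/-- An element fixing every letter's point is trivial. -/
theorem eq_one_of_gen {y : Cfsg.Spor.Fi24} (ho : md.phi y md.o = md.o)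
    (h : ∀ x, 1 ≤ x → x < 12 → md.phi y (pt (genPtWord x)) = pt (genPtWord x)) : y = 1 := by
  rcases fix_trivial ho fun x h2 => h x (by omega) with hy | hy
  · exact hy
  · have h1 := congrArg Fin.val (hy ▸ h 1 le_rfl (by norm_num))
    have hl := letter_pts
    simp only [Bool.and_eq_true] at hl
    have hk : (pt (genPtWord 1) : ℕ) = 2 := pt_eq (by rw [Bool.and_eq_true]; exact ⟨by decide +kernel, hl.1.1.1⟩)
    have h2 := md.phi_at (okW_letters 0 (by decide)) (pt (genPtWord 1))
    simp only [Model.val, evW_cons, evW_nil, mul_one] at h2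
    rw [h2, hk] at h1
    have h3 : Nat.beq (fAt [0] 2) 1 = true := by decide +kernel
    rw [md_pAt, Nat.eq_of_beq_eq_true h3] at h1
    omega

/-- The check that a word acts trivially at the letters' points. -/
noncomputable def trivOK (w : List ℕ) (n : ℕ) : Bool :=
  md.okW w && Nat.beq (md.powAt w n 0) 0 &&
    (List.range 11).all fun x => force (fAt (genPtWord (x + 1)) 0) fun q => Nat.beq (md.powAt w n q) q

theorem trivOK_spec {w : List ℕ} {n : ℕ} (h : trivOK w n = true) : md.val w ^ n = 1 := by
  simp only [trivOK, Bool.and_eq_true, List.all_eq_true, List.mem_range, force_eq] at h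
  obtain ⟨⟨hok, ho⟩, hg⟩ := h
  refine eq_one_of_gen ?_ fun x h1 h12 => ?_
  · apply Fin.ext
    rw [← md.powAt_eq hok]
    exact Nat.eq_of_beq_eq_true ho
  · apply Fin.ext
    rw [← md.powAt_eq hok, pt_val (v := genPtWord x) (gp.ok x (by rw [md_eps]; exact h12)).1]
    have := Nat.eq_of_beq_eq_true (hg (x - 1) (by omega))
    rwa [Nat.sub_add_cancel h1] at this

end CfsgLib.Fi24Out
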