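import Cfsg.Agent.Lib.Fi24Out.Orbits
import Cfsg.Agent.Lib.Fi24Out.Data

/-!
The centraliser of the element of order 23 in the point stabiliser of Fi24.
-/
set_option autoImplicit false
set_option maxRecDepth 20000
set_option Elab.async false

namespace CfsgLib.Fi24Out

open CfsgLib.Presented CfsgLib.Presented.Vec

attribute [local irreducible] xCov0 xCov1 xCov2 xCov3 xCov4 xRepPts

/-- The element of order 23. -/
noncomputable abbrev uX : Cfsg.Spor.Fi24 := md.val xW

theorem x_basic : (md.okW xW && Nat.beq (fAt xW 0) 0 && md.okW vxP && Nat.beq (fAt vxP 0) xP0 &&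
    Nat.beq (xOrbP.getD 0 0) xP0 && Nat.beq xOrbP.length 23 && chainOK xW xOrbP &&
    md.okW vxQ && Nat.beq (fAt vxQ 0) xQ0 && Nat.beq (xOrbQ.getD 0 0) xQ0 && chainOK xW xOrbQ &&
    md.N0.testBit xP0 && md.N0.testBit xQ0) = true := by decide +kernel

theorem x_anchor_self : ((List.range 11).all fun i => md.selfB xW vxP (i + 1)) = true := by decide +kernel

/-- The check at a representative. -/
noncomputable def repOK (e : List ℕ × ℕ × ℕ) : Bool :=
  md.okW e.1 && Nat.beq (fAt e.1 0) e.2.1 && Nat.blt 0 e.2.2 && Nat.blt e.2.2 12 &&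
    !(md.selfB xW e.1 e.2.2)

theorem reps_ok0 : xReps0.all repOK = true := by decide +kernel

theorem reps_ok1 : xReps1.all repOK = true := by decide +kernel

theorem reps_ok2 : xReps2.all repOK = true := by decide +kernel

theorem reps_ok3 : xReps3.all repOK = true := by decide +kernel

theorem reps_ok4 : xReps4.all repOK = true := by decide +kernel

theorem reps_ok5 : xReps5.all repOK = true := by decide +kernel

theorem reps_ok6 : xReps6.all repOK = true := by decide +kernel

theorem reps_ok7 : xReps7.all repOK = true := by decide +kernel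

theorem reps_ok8 : xReps8.all repOK = true := by decide +kernel

theorem reps_ok9 : xReps9.all repOK = true := by decide +kernel

theorem reps_ok10 : xReps10.all repOK = true := by decide +kernel

theorem reps_ok11 : xReps11.all repOK = true := by decide +kernel

theorem reps_ok12 : xReps12.all repOK = true := by decide +kernel

theorem reps_ok13 : xReps13.all repOK = true := by decide +kernel

theorem reps_list : xRepPts = xP0 :: (xReps0 ++ xReps1 ++ xReps2 ++ xReps3 ++ xReps4 ++ xReps5 ++ xReps6 ++ xReps7 ++ xReps8 ++ xReps9 ++ xReps10 ++ xReps11 ++ xReps12 ++ xReps13).map (fun e => e.2.1) := by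
  decide +kernel

theorem cov0 : agreeOn Fi24Cert.rep.N (orbFrom xW (ptsSet xRepPts) (ptsSet xRepPts) 5) xCov0 = true := by decide +kernel

theorem cov1 : agreeOn Fi24Cert.rep.N (orbFrom xW (ptsSet xRepPts) xCov0 5) xCov1 = true := by decide +kernel

theorem cov2 : agreeOn Fi24Cert.rep.N (orbFrom xW (ptsSet xRepPts) xCov1 5) xCov2 = true := by decide +kernel

theorem cov3 : agreeOn Fi24Cert.rep.N (orbFrom xW (ptsSet xRepPts) xCov2 5) xCov3 = true := by decide +kernel

theorem cov4 : agreeOn Fi24Cert.rep.N (orbFrom xW (ptsSet xRepPts) xCov3 2) xCov4 = true := by decide +kernel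

theorem cov_N0 : subOn Fi24Cert.rep md.N0 xCov4 = true := by decide +kernel

theorem xW_ok : md.okW xW = true := by
  have h := x_basic
  simp only [Bool.and_eq_true] at h
  exact h.1.1.1.1.1.1.1.1.1.1.1.1

theorem uX_fix : md.phi uX md.o = md.o := by
  apply Fin.ext
  rw [md.phi_at xW_ok]
  have h := x_basic
  simp only [Bool.and_eq_true] at h
  exact Nat.eq_of_beq_eq_true h.1.1.1.1.1.1.1.1.1.1.1.2

theorem covered_N0 (i : Pt) (hi : md.N0.testBit i = true) :
    ∃ m, (md.phi (uX ^ m) i : ℕ) ∈ xRepPts :=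
  (covered_lit xW_ok (covered_lit xW_ok (covered_lit xW_ok (covered_lit xW_ok
    (covered_lit xW_ok (covered_start xW xRepPts) cov0) cov1) cov2) cov3) cov4) i
    (subOn_spec cov_N0 i hi)

theorem reps_ok_all : (xReps0 ++ xReps1 ++ xReps2 ++ xReps3 ++ xReps4 ++ xReps5 ++ xReps6 ++ xReps7 ++ xReps8 ++ xReps9 ++ xReps10 ++ xReps11 ++ xReps12 ++ xReps13).all repOK = true := by
  simp only [List.all_append, reps_ok0, reps_ok1, reps_ok2, reps_ok3, reps_ok4, reps_ok5, reps_ok6, reps_ok7, reps_ok8, reps_ok9, reps_ok10, reps_ok11, reps_ok12, reps_ok13, Bool.and_self]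

theorem xP_pt : (pt vxP : ℕ) = xP0 := by
  refine pt_eq ?_
  have h := x_basic
  simp only [Bool.and_eq_true] at h
  rw [Bool.and_eq_true]
  exact ⟨h.1.1.1.1.1.1.1.1.1.1.2, h.1.1.1.1.1.1.1.1.1.2⟩

theorem xQ_pt : (pt vxQ : ℕ) = xQ0 := by
  refine pt_eq ?_
  have h := x_basic
  simp only [Bool.and_eq_true] at h
  rw [Bool.and_eq_true]
  exact ⟨h.1.1.1.1.1.2, h.1.1.1.1.2⟩

/-- A centralising element fixing the base point moves the first anchor inside its orbit. -/
theorem x_anchor {y : Cfsg.Spor.Fi24} (ho : md.phi y md.o = md.o) (hc : Commute y uX) :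
    ∃ m, md.phi (uX ^ m * y) (pt vxP) = pt vxP := by
  have hb := x_basic
  simp only [Bool.and_eq_true] at hb
  obtain ⟨m, hm⟩ := covered_N0 (md.phi y (pt vxP)) (by
    rw [md.N0_stab ho, xP_pt]; exact hb.1.2)
  refine ⟨m, Fin.ext ?_⟩
  rw [map_mul, Equiv.Perm.mul_apply, xP_pt]
  rw [reps_list] at hm
  rcases List.mem_cons.1 hm with hm | hm
  · exact hm
  · exfalso
    obtain ⟨e, he, hq⟩ := List.mem_map.1 hm
    have h := List.all_eq_true.1 reps_ok_all e he
    simp only [repOK, Bool.and_eq_true, Nat.blt_eq, Bool.not_eq_true'] at h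
    obtain ⟨⟨⟨⟨hok, hv⟩, hi0⟩, hi12⟩, hs⟩ := h
    have hqv : (md.phi (uX ^ m) (md.phi y (pt vxP)) : ℕ) = md.pAt e.1 md.o := by
      rw [← hq, md_pAt]
      exact (Nat.eq_of_beq_eq_true hv).symm
    have h1 : md.selfB xW vxP e.2.2 = true := by
      have := List.all_eq_true.1 x_anchor_self (e.2.2 - 1) (List.mem_range.2 (by omega))
      rwa [Nat.sub_add_cancel hi0] at this
    rw [Model.selfB_iff xW_ok hb.1.1.1.1.1.1.1.1.1.1.2 _ (md.phi_at hb.1.1.1.1.1.1.1.1.1.1.2 md.o)] at h1
    rw [← Model.near_self_image hc, ← Model.near_shift uX m,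
      ← Model.selfB_iff xW_ok hok _ hqv, hs] at h1
    exact Bool.false_ne_true h1

theorem x_sig_ok : (xSig.all fun e => md.okW e.1 && Nat.blt e.2.1 23 &&
    Nat.beq (fAt e.1 0) (xOrbP.getD e.2.1 0) && (md.relB e.1 xQ0 == e.2.2)) = true := by decide +kernel

theorem x_cand_set : subOn Fi24Cert.rep (md.sigSet (xSig.map fun e => (e.1, e.2.2)))
    (ptsSet (xQ0 :: xCand.map fun e => e.2.1)) = true := by decide +kernel

theorem x_cand_ok : (xCand.all fun e => md.okW e.1 && Nat.beq (fAt e.1 0) e.2.1 &&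
    !(md.selfB xW e.1 e.2.2 == md.selfB xW vxQ e.2.2)) = true := by decide +kernel

/-- A centralising element fixing the base point and the first anchor fixes the second anchor. -/
theorem x_second {y : Cfsg.Spor.Fi24} (ho : md.phi y md.o = md.o) (hc : Commute y uX)
    (hP : md.phi y (pt vxP) = pt vxP) : md.phi y (pt vxQ) = pt vxQ := by
  have hb := x_basic
  simp only [Bool.and_eq_true] at hb
  have hvP := xP_pt
  have hvQ := xQ_pt
  have hsig : (md.sigSet (xSig.map fun e => (e.1, e.2.2))).testBit (md.phi y (pt vxQ)) = true := by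
    refine Model.sigSet_spec (by rw [md.N0_stab ho, hvQ]; exact hb.2) fun e' he' => ?_
    obtain ⟨e, he, rfl⟩ := List.mem_map.1 he'
    have h := List.all_eq_true.1 x_sig_ok e he
    simp only [Bool.and_eq_true, Nat.blt_eq, beq_iff_eq] at h
    obtain ⟨⟨⟨hok, hi⟩, hv⟩, hrel⟩ := h
    refine ⟨hok, ?_⟩
    have hpe : pt e.1 = md.phi (uX ^ e.2.1) (pt vxP) := by
      apply Fin.ext
      rw [← chainOK_spec xW_ok hb.1.1.1.1.1.1.2 (hvP.trans (Nat.eq_of_beq_eq_true hb.1.1.1.1.1.1.1.1.2).symm)
        (by rw [Nat.eq_of_beq_eq_true hb.1.1.1.1.1.1.1.2]; exact hi), pt_val hok]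
      exact Nat.eq_of_beq_eq_true hv
    have hfix : md.phi y (pt e.1) = pt e.1 := by rw [hpe, Model.apply_pow_comm hc, hP]
    show md.Near (pt e.1) _ ↔ _
    conv_lhs => rw [← hfix]
    rw [md.near_apply, ← md.relB_iff hok rfl, hvQ, hrel]
  have hmem := ptsSet_spec (subOn_spec x_cand_set _ hsig)
  rcases List.mem_cons.1 hmem with h | h
  · exact Fin.ext (h.trans hvQ.symm)
  · exfalso
    obtain ⟨e, he, hq⟩ := List.mem_map.1 h
    have hk := List.all_eq_true.1 x_cand_ok e he
    simp only [Bool.and_eq_true, Bool.not_eq_true', beq_eq_false_iff_ne, ne_eq] at hk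
    obtain ⟨⟨hok, hv⟩, hne⟩ := hk
    have hqv : (md.phi y (pt vxQ) : ℕ) = md.pAt e.1 md.o := by
      rw [← hq, md_pAt]
      exact (Nat.eq_of_beq_eq_true hv).symm
    refine hne (Bool.eq_iff_iff.2 ?_)
    rw [Model.selfB_iff xW_ok hok _ hqv, Model.selfB_iff xW_ok hb.1.1.1.1.1.2 _ (md.phi_at hb.1.1.1.1.1.2 md.o),
      Model.near_self_image hc]

theorem x_close : gp.closeOK genTargets xClose (xOrbP ++ xOrbQ) = true := by decide +kernel

/-- A centralising element fixing the base point and both anchors is trivial or the central letter. -/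
theorem x_trivial {y : Cfsg.Spor.Fi24} (ho : md.phi y md.o = md.o) (hc : Commute y uX)
    (hP : md.phi y (pt vxP) = pt vxP) (hQ : md.phi y (pt vxQ) = pt vxQ) : y = 1 ∨ y = zEl := by
  have hb := x_basic
  simp only [Bool.and_eq_true] at hb
  refine fix_trivial_of_close x_close ho fun i hi => ?_
  rcases List.mem_append.1 hi with hi | hi
  · exact fix_chain xW_ok hb.1.1.1.1.1.1.2 (xP_pt.trans (Nat.eq_of_beq_eq_true hb.1.1.1.1.1.1.1.1.2).symm) hc hP hi
  · exact fix_chain xW_ok hb.1.1.2 (xQ_pt.trans (Nat.eq_of_beq_eq_true hb.1.1.1.2).symm) hc hQ hi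

/-- The centraliser of the element of order 23 in the point stabiliser. -/
theorem cent_x {y : Cfsg.Spor.Fi24} (ho : md.phi y md.o = md.o) (hc : Commute y uX) :
    ∃ m, uX ^ m * y = 1 ∨ uX ^ m * y = zEl := by
  obtain ⟨m, hm⟩ := x_anchor ho hc
  have ho' : md.phi (uX ^ m * y) md.o = md.o := by
    rw [map_mul, Equiv.Perm.mul_apply, ho, map_pow]
    exact Equiv.Perm.pow_apply_eq_self_of_apply_eq_self uX_fix m
  have hc' : Commute (uX ^ m * y) uX := (Commute.pow_self uX m).mul_left hc
  exact ⟨m, x_trivial ho' hc' hm (x_second ho' hc' hm)⟩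

end CfsgLib.Fi24Out
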